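import Groth.Agent.H9Jac.Basic
import Groth.Agent.RegLoc6.Basic
import Groth.Agent.CotTLib.SmoothField
import Groth.Agent.S2768
import Groth.Agent.S7408
import Groth.Agent.FibDim.RelDim
import Groth.Agent.FibDim.BaseField
import Groth.Agent.FibDim.Comp
import Mathlib

/-!
# Smoothness over a field from the rank of the differentials and the dimension
-/

set_option autoImplicit false
set_option linter.style.haveILetI false
set_option backward.isDefEq.respectTransparency false
set_option backward.isDefEq.respectTransparency.types false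

universe u
set_option maxHeartbeats 1600000

open AlgebraicGeometry CategoryTheory TensorProduct KaehlerDifferential

namespace Groth.Agent.SmoothField

variable {k : Type u} [Field k]

/-- Linear independence does not depend on which residue field one uses. -/
theorem linearIndependent_of_residueField {A : Type u} [CommRing A] (q : Ideal A) [q.IsPrime]
    (K : Type u) [Field K] [Algebra A K] (θ : q.ResidueField →ₐ[A] K) {M : Type u} [AddCommGroup M]
    [Module A M] {ι : Type*} (m : ι → M)
    (h : LinearIndependent K (fun i => (1 : K) ⊗ₜ[A] m i)) :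
    LinearIndependent q.ResidueField (fun i => (1 : q.ResidueField) ⊗ₜ[A] m i) := by
  rw [linearIndependent_iff'] at h ⊢
  intro s c hc i hi
  refine θ.toRingHom.injective ?_
  rw [map_zero]
  refine h s (fun j => θ (c j)) ?_ i hi
  have h2 := congrArg (TensorProduct.map θ.toLinearMap (LinearMap.id : M →ₗ[A] M)) hc
  rw [map_sum, map_zero] at h2
  refine Eq.trans (Finset.sum_congr rfl fun j _ => ?_) h2
  simp [TensorProduct.smul_tmul']

/-- The fibre of the differentials at a point of standard smooth neighbourhood. -/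
theorem fibreDimAt_eq_of_isSmoothAt {R C : Type u} [CommRing R] [CommRing C] [Algebra R C]
    [Algebra.FinitePresentation R C]
    (P : Ideal C) [P.IsPrime] [Algebra.IsSmoothAt R P] (K : Type u) [Field K] [Algebra C K]
    (hK : RingHom.ker (algebraMap C K) = P) :
    FlatMor.fibreDimAt (Spec.map (CommRingCat.ofHom (algebraMap R C))) ⟨P, inferInstance⟩ =
      ((Module.finrank K (K ⊗[C] Ω[C⁄R]) : ℕ) : WithBot ℕ∞) := by
  obtain ⟨f, hf, hstd⟩ := Algebra.IsSmoothAt.exists_notMem_isStandardSmooth R P
  let Cf := Localization.Away f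
  haveI : Algebra.IsStandardSmooth R Cf := hstd
  obtain ⟨ι, σ, hι, hσ, ⟨Pr⟩⟩ := (inferInstance : Algebra.IsStandardSmooth R Cf).out
  haveI : Algebra.IsStandardSmoothOfRelativeDimension Pr.dimension R Cf :=
    ⟨ι, σ, ‹_›, ‹_›, Pr, rfl⟩
  let n' := Pr.dimension
  have hfK : IsUnit (algebraMap C K f) := Ne.isUnit fun h => hf (hK ▸ (RingHom.mem_ker.2 h))
  letI : Algebra Cf K := (IsLocalization.Away.lift f hfK).toAlgebra
  haveI : IsScalarTower C Cf K := IsScalarTower.of_algebraMap_eq fun c =>
    (IsLocalization.Away.lift_eq f hfK c).symm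
  haveI : Algebra.FormallyEtale C Cf := .of_isLocalization (Submonoid.powers f)
  haveI : Nontrivial Cf := (algebraMap Cf K).domain_nontrivial
  have hrank : Module.finrank K (K ⊗[C] Ω[C⁄R]) = n' := by
    let e : K ⊗[Cf] Ω[Cf⁄R] ≃ₗ[K] K ⊗[C] Ω[C⁄R] :=
      (AlgebraTensorModule.congr (LinearEquiv.refl K K)
        (KaehlerDifferential.tensorKaehlerEquivOfFormallyEtale R C Cf).symm) ≪≫ₗ
        AlgebraTensorModule.cancelBaseChange C Cf K K Ω[C⁄R]
    rw [← e.finrank_eq, Module.finrank_baseChange]
    have hr := Algebra.IsStandardSmoothOfRelativeDimension.rank_kaehlerDifferential (R := R) (S := Cf) n'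
    simp [Module.finrank, hr]
  rw [hrank]
  let a : Spec (CommRingCat.of Cf) ⟶ Spec (CommRingCat.of C) :=
    Spec.map (CommRingCat.ofHom (algebraMap C Cf))
  let g : Spec (CommRingCat.of Cf) ⟶ Spec (CommRingCat.of R) :=
    Spec.map (CommRingCat.ofHom (algebraMap R Cf))
  haveI : IsOpenImmersion a := IsOpenImmersion.of_isLocalization f
  haveI : SmoothOfRelativeDimension n' g := by
    rw [HasRingHomProperty.Spec_iff (P := @SmoothOfRelativeDimension n')]
    refine RingHom.locally_of RingHom.isStandardSmoothOfRelativeDimension_respectsIso _ ?_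
    exact (RingHom.isStandardSmoothOfRelativeDimension_algebraMap n').2 inferInstance
  let Q : PrimeSpectrum Cf := ⟨RingHom.ker (algebraMap Cf K), RingHom.ker_isPrime _⟩
  have ha : a Q = (⟨P, inferInstance⟩ : PrimeSpectrum C) := PrimeSpectrum.ext (by
    show (RingHom.ker (algebraMap Cf K)).comap (algebraMap C Cf) = P
    rw [RingHom.comap_ker, ← IsScalarTower.algebraMap_eq]
    exact hK)
  rw [← ha]
  haveI : LocallyOfFiniteType (Spec.map (CommRingCat.ofHom (algebraMap R C))) := by
    rw [HasRingHomProperty.Spec_iff (P := @LocallyOfFiniteType)]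
    exact RingHom.finiteType_algebraMap.2 inferInstance
  rw [Groth.Agent.S7408.result (Spec.map (CommRingCat.ofHom (algebraMap R C))) g a (𝟙 _) (by
    rw [Category.comp_id]
    show g = a ≫ _
    simp only [g, a, ← Spec.map_comp, ← CommRingCat.ofHom_comp, ← IsScalarTower.algebraMap_eq]) Q]
  exact Groth.Agent.S2768.result n' g Q

theorem fibreDimAt_le_of_isSmoothAt {C : Type u} [CommRing C] [Algebra k C] [Algebra.FiniteType k C]
    (P : Ideal C) [P.IsPrime] [Algebra.IsSmoothAt k P] (K : Type u) [Field K] [Algebra C K]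
    (hK : RingHom.ker (algebraMap C K) = P) :
    FlatMor.fibreDimAt (Spec.map (CommRingCat.ofHom (algebraMap k C))) ⟨P, inferInstance⟩ =
      ((Module.finrank K (K ⊗[C] Ω[C⁄k]) : ℕ) : WithBot ℕ∞) :=
  haveI : Algebra.FinitePresentation k C := Algebra.FinitePresentation.of_finiteType.1 inferInstance
  fibreDimAt_eq_of_isSmoothAt P K hK

/-- The part of the differentials of `A` spanned by the relations. -/
noncomputable def relSpan {A B : Type u} [CommRing A] [CommRing B] [Algebra k A] [Algebra k B]
    (π : A →ₐ[k] B)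
    (K : Type u) [Field K] [Algebra A K] : Submodule K (K ⊗[A] Ω[A⁄k]) :=
  Submodule.span K (Set.range fun g : ↥(RingHom.ker π.toRingHom) => (1 : K) ⊗ₜ[A] D k A (g : A))

theorem finrank_le_add_relSpan {A B : Type u} [CommRing A] [CommRing B] [Algebra k A] [Algebra k B]
    [Algebra A B] [IsScalarTower k A B] [Algebra.FiniteType k B] (π : A →ₐ[k] B)
    (hπA : ∀ a, algebraMap A B a = π a) (hπ : Function.Surjective π)
    (K : Type u) [Field K] [Algebra B K] [Algebra A K] [IsScalarTower A B K] [Algebra k K] [IsScalarTower k B K]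
    [IsScalarTower k A K] [Module.Finite A Ω[A⁄k]] :
    Module.finrank K (K ⊗[A] Ω[A⁄k]) ≤
      Module.finrank K (K ⊗[B] Ω[B⁄k]) + Module.finrank K (relSpan π K) := by
  let I : Ideal A := RingHom.ker π.toRingHom
  let v : ↥I → K ⊗[A] Ω[A⁄k] := fun g => (1 : K) ⊗ₜ[A] D k A (g : A)
  let W : Submodule K (K ⊗[A] Ω[A⁄k]) := Submodule.span K (Set.range v)
  let Q' := (K ⊗[A] Ω[A⁄k]) ⧸ W
  let D₀ : A →ₗ[k] Q' :=
    { toFun := fun a => Submodule.Quotient.mk ((1 : K) ⊗ₜ[A] D k A a)
      map_add' := fun a b => by rw [map_add, TensorProduct.tmul_add]; rfl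
      map_smul' := fun c a => by rw [Derivation.map_smul, TensorProduct.tmul_smul]; rfl }
  have hI0 : ∀ a ∈ I, D₀ a = 0 := fun a ha =>
    (Submodule.Quotient.mk_eq_zero W).2 (Submodule.subset_span ⟨⟨a, ha⟩, rfl⟩)
  have hD0 : ∀ a a', π a = π a' → D₀ a = D₀ a' := fun a a' e => by
    rw [← sub_eq_zero, ← map_sub]
    exact hI0 _ (RingHom.mem_ker.2 (show π (a - a') = 0 by rw [map_sub, e, sub_self]))
  choose s hs using hπ
  let D' : Derivation k B Q' :=
    { toFun := fun b => D₀ (s b)
      map_add' := fun b b' => by rw [← map_add]; exact hD0 _ _ (by rw [map_add, hs, hs, hs])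
      map_smul' := fun c b => by
        rw [RingHom.id_apply, ← map_smul]; exact hD0 _ _ (by rw [map_smul, hs, hs])
      map_one_eq_zero' := by
        show D₀ (s 1) = 0
        rw [hD0 (s 1) 1 (by rw [hs, map_one])]
        show Submodule.Quotient.mk ((1 : K) ⊗ₜ[A] D k A 1) = 0
        rw [Derivation.map_one_eq_zero, TensorProduct.tmul_zero]; rfl
      leibniz' := fun b b' => by
        show D₀ (s (b * b')) = b • D₀ (s b') + b' • D₀ (s b)
        rw [hD0 (s (b * b')) (s b * s b') (by rw [map_mul, hs, hs, hs])]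
        have e : ∀ (c : B) (x : Q'), c • x = s c • x := fun c x => by
          rw [← IsScalarTower.algebraMap_smul B (s c) x, hπA, hs]
        rw [e b, e b']
        show Submodule.Quotient.mk ((1 : K) ⊗ₜ[A] D k A (s b * s b')) =
          s b • D₀ (s b') + s b' • D₀ (s b)
        rw [Derivation.leibniz, TensorProduct.tmul_add, TensorProduct.tmul_smul, TensorProduct.tmul_smul]
        rfl }
  let L : K ⊗[B] Ω[B⁄k] →ₗ[K] Q' := LinearMap.liftBaseChange K D'.liftKaehlerDifferential
  have hL : Function.Surjective L := by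
    rw [← LinearMap.range_eq_top, eq_top_iff]
    rintro y -
    obtain ⟨x, rfl⟩ := Submodule.Quotient.mk_surjective W y
    induction x using TensorProduct.induction_on with
    | zero => exact zero_mem _
    | add x y hx hy => rw [Submodule.Quotient.mk_add]; exact add_mem hx hy
    | tmul c m =>
      have hm : m ∈ Submodule.span A (Set.range (D k A)) := by
        rw [KaehlerDifferential.span_range_derivation]; trivial
      induction hm using Submodule.span_induction with
      | mem z hz =>
        obtain ⟨a, rfl⟩ := hz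
        refine ⟨c ⊗ₜ[B] D k B (π a), ?_⟩
        simp only [L, LinearMap.liftBaseChange_tmul, Derivation.liftKaehlerDifferential_comp_D]
        show c • D₀ (s (π a)) = _
        rw [hD0 (s (π a)) a (hs _)]
        show c • Submodule.Quotient.mk ((1 : K) ⊗ₜ[A] D k A a) = _
        rw [← Submodule.Quotient.mk_smul, TensorProduct.smul_tmul', smul_eq_mul, mul_one]
      | zero => rw [TensorProduct.tmul_zero]; exact zero_mem _
      | add z w _ _ hz hw => rw [TensorProduct.tmul_add, Submodule.Quotient.mk_add]; exact add_mem hz hw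
      | smul a z _ hz =>
        rw [TensorProduct.tmul_smul, ← IsScalarTower.algebraMap_smul K a, Submodule.Quotient.mk_smul]
        exact Submodule.smul_mem _ _ hz
  haveI : Module.Finite B Ω[B⁄k] := inferInstance
  have h1 := LinearMap.finrank_le_finrank_of_surjective hL
  have h2 : Module.finrank K Q' + Module.finrank K W = Module.finrank K (K ⊗[A] Ω[A⁄k]) :=
    Submodule.finrank_quotient_add_finrank W
  have h3 : Module.finrank K W = Module.finrank K (relSpan π K) := rfl
  omega

/-- Relations with independent differentials, spanning all differentials of relations. -/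
theorem exists_relations {A B : Type u} [CommRing A] [CommRing B] [Algebra k A] [Algebra k B]
    (π : A →ₐ[k] B) (K : Type u) [Field K] [Algebra A K] [Module.Finite A Ω[A⁄k]] :
    ∃ S₀ : Finset A, (∀ a ∈ S₀, π a = 0) ∧
      LinearIndependent K (fun a : ↥S₀ => (1 : K) ⊗ₜ[A] D k A (a : A)) ∧
      relSpan π K ≤ Submodule.span K ((fun a : A => (1 : K) ⊗ₜ[A] D k A a) '' (↑S₀ : Set A)) := by
  classical
  let I : Ideal A := RingHom.ker π.toRingHom
  let v : ↥I → K ⊗[A] Ω[A⁄k] := fun g => (1 : K) ⊗ₜ[A] D k A (g : A)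
  obtain ⟨t, ht, hts, hti⟩ := exists_linearIndependent K (Set.range v)
  haveI : Fintype t := hti.setFinite.fintype
  choose g hg using fun x : t => ht x.2
  let S₀ : Finset A := Finset.univ.image fun x : t => (g x : A)
  have hS₀ : ∀ a, a ∈ S₀ ↔ ∃ x : t, (g x : A) = a := fun a => by simp [S₀]
  have hli : LinearIndependent K (fun a : ↥S₀ => (1 : K) ⊗ₜ[A] D k A (a : A)) := by
    have hinj : ∀ x y : t, (g x : A) = g y → x = y := fun x y e => by
      refine Subtype.ext ?_
      rw [← hg x, ← hg y]
      exact congrArg (fun z => (1 : K) ⊗ₜ[A] D k A z) e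
    let e : t ≃ ↥S₀ := Equiv.ofBijective (fun x => ⟨g x, (hS₀ _).2 ⟨x, rfl⟩⟩)
      ⟨fun x y e => hinj x y (congrArg Subtype.val e :), fun y => by
        obtain ⟨x, hx⟩ := (hS₀ _).1 y.2
        exact ⟨x, Subtype.ext hx⟩⟩
    refine (linearIndependent_equiv e).1 ?_
    have h2 : (fun x : t => (1 : K) ⊗ₜ[A] D k A (g x : A)) = fun x : t => (x : K ⊗[A] Ω[A⁄k]) := funext hg
    show LinearIndependent K (fun x : t => (1 : K) ⊗ₜ[A] D k A (g x : A))
    rw [h2]
    exact hti
  refine ⟨S₀, fun a ha => ?_, hli, ?_⟩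
  · obtain ⟨x, rfl⟩ := (hS₀ a).1 ha
    exact (g x).2
  · show Submodule.span K (Set.range v) ≤ _
    rw [← hts]
    refine Submodule.span_mono fun x hx => ?_
    exact ⟨g ⟨x, hx⟩, (hS₀ _).2 ⟨_, rfl⟩, hg ⟨x, hx⟩⟩

theorem finrank_tensor_quotient_add_le {A B C : Type u} [CommRing A] [CommRing B] [CommRing C]
    [Algebra k A] [Algebra k B] [Algebra k C] [Algebra A C] [IsScalarTower k A C] (π : A →ₐ[k] B)
    (K : Type u) [Field K] [Algebra A K] [Algebra C K] [Module.Finite A Ω[A⁄k]]
    (hAC : ∀ a, algebraMap A K a = algebraMap C K (algebraMap A C a)) {S₀ : Finset A}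
    (hspan : relSpan π K ≤ Submodule.span K ((fun a : A => (1 : K) ⊗ₜ[A] D k A a) '' (↑S₀ : Set A)))
    (h0 : ∀ a ∈ (↑S₀ : Set A), algebraMap A C a = 0) (hsurj : Function.Surjective (algebraMap A C)) :
    Module.finrank K (K ⊗[C] Ω[C⁄k]) + Module.finrank K (relSpan π K) ≤
      Module.finrank K (K ⊗[A] Ω[A⁄k]) := by
  haveI : IsScalarTower A C K := IsScalarTower.of_algebraMap_eq hAC
  let M : K ⊗[A] Ω[A⁄k] →ₗ[K] K ⊗[C] Ω[C⁄k] := LinearMap.liftBaseChange K
    (((TensorProduct.mk C K Ω[C⁄k] 1).restrictScalars A).comp (KaehlerDifferential.map k k A C))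
  have hM : Function.Surjective M := by
    rw [← LinearMap.range_eq_top, eq_top_iff]
    rintro y -
    induction y using TensorProduct.induction_on with
    | zero => exact zero_mem _
    | add x y hx hy => exact add_mem hx hy
    | tmul c m =>
      obtain ⟨m, rfl⟩ := KaehlerDifferential.map_surjective_of_surjective k k A C hsurj m
      refine ⟨c ⊗ₜ m, ?_⟩
      simp [M, TensorProduct.smul_tmul']
  have hW : relSpan π K ≤ LinearMap.ker M := by
    refine hspan.trans (Submodule.span_le.2 ?_)
    rintro _ ⟨a, ha, rfl⟩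
    simp [M, h0 a ha]
  have h1 := LinearMap.finrank_range_add_finrank_ker M
  rw [LinearMap.range_eq_top.2 hM, finrank_top] at h1
  have h2 := Submodule.finrank_mono hW
  omega

/-- A closed subscheme of full dimension of a smooth scheme contains the component. -/
theorem exists_mul_mem {A B : Type u} [CommRing A] [CommRing B] [Algebra k A] [Algebra k B]
    [Algebra.FiniteType k A] (π : A →ₐ[k] B) (hπ : Function.Surjective π) (J : Ideal A)
    (hJI : J ≤ RingHom.ker π.toRingHom) (P : Ideal B) [P.IsPrime]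
    [Algebra.IsSmoothAt k (P.comap (Ideal.Quotient.liftₐ J π fun a ha => RingHom.mem_ker.1 (hJI ha)).toRingHom)]
    (hdim : FlatMor.fibreDimAt (Spec.map (CommRingCat.ofHom (algebraMap k (A ⧸ J))))
        ⟨P.comap (Ideal.Quotient.liftₐ J π fun a ha => RingHom.mem_ker.1 (hJI ha)).toRingHom, inferInstance⟩ ≤
      FlatMor.fibreDimAt (Spec.map (CommRingCat.ofHom (algebraMap k B))) ⟨P, inferInstance⟩) :
    ∀ a, π a = 0 → ∃ u, π u ∉ P ∧ u * a ∈ J := by
  intro a₀ ha₀
  choose s hs using hπ
  let C := A ⧸ J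
  let ψ : C →ₐ[k] B := Ideal.Quotient.liftₐ J π fun a ha => RingHom.mem_ker.1 (hJI ha)
  let P' : Ideal C := P.comap ψ.toRingHom
  let I : Ideal A := RingHom.ker π.toRingHom
  let i : Spec (CommRingCat.of B) ⟶ Spec (CommRingCat.of C) := Spec.map (CommRingCat.ofHom ψ.toRingHom)
  haveI : IsClosedImmersion i := IsClosedImmersion.spec_of_surjective _ fun b =>
    ⟨Ideal.Quotient.mk J (s b), hs b⟩
  let fC := Spec.map (CommRingCat.ofHom (algebraMap k C))
  haveI : LocallyOfFiniteType fC := by
    rw [HasRingHomProperty.Spec_iff (P := @LocallyOfFiniteType)]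
    exact RingHom.finiteType_algebraMap.2 inferInstance
  have hfB : Spec.map (CommRingCat.ofHom (algebraMap k B)) = i ≫ fC := by
    simp only [i, fC, ← Spec.map_comp, ← CommRingCat.ofHom_comp]
    congr 2
    exact ψ.comp_algebraMap.symm
  have h := hdim
  rw [hfB] at h
  obtain ⟨z, hz, -, -, hdz⟩ := Groth.Agent.FibDim.exists_fibMax_generization (i ≫ fC) ⟨P, inferInstance⟩
  rw [hdz, Groth.Agent.FibDim.rd_comp] at h
  have hri : Groth.Agent.FibDim.rd i z = 0 := by
    have h1 := Groth.Agent.FibDim.rd_eq_rdeg i z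
    rw [Groth.Agent.VarDim.rdeg_preimmersion i] at h1
    exact_mod_cast h1
  rw [hri, add_zero] at h
  haveI : Subsingleton ↥(Spec (CommRingCat.of k)) := Groth.Agent.FibDim.subsingleton_spec_field k
  have hzP : i z ⤳ (⟨P', inferInstance⟩ : PrimeSpectrum C) := hz.map i.continuous
  have hmax : ∀ w, w ⤳ i z → w = i z := by
    intro w hw
    by_contra hne
    have h1 := Groth.Agent.FibDim.rd_lt fC hw hne (Subsingleton.elim _ _)
    have h2 := (Groth.Agent.FibDim.fibreDimAt_ge_rd fC (hw.trans hzP)).trans h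
    have h3 : Groth.Agent.FibDim.rd fC w ≤ Groth.Agent.FibDim.rd fC (i z) := by exact_mod_cast h2
    omega
  haveI := Groth.Agent.CotTLib.isRegularLocalRing_of_isSmoothAt (k := k) P'
  haveI : IsDomain (Localization.AtPrime P') :=
    Groth.Agent.RegLoc6.isDomain_of_isRegularLocalRing _
  let Q₀ : PrimeSpectrum C := ⟨RingHom.ker (algebraMap C (Localization.AtPrime P')), RingHom.ker_isPrime _⟩
  let Q : PrimeSpectrum C := i z
  have hQP : Q.asIdeal ≤ P' := (PrimeSpectrum.le_iff_specializes Q ⟨P', inferInstance⟩).2 hzP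
  have hle : Q₀ ≤ Q := fun c hc => by
    obtain ⟨⟨u, hu⟩, huc⟩ := (IsLocalization.map_eq_zero_iff P'.primeCompl _ c).1 hc
    exact (Q.isPrime.mem_or_mem (show u * c ∈ Q.asIdeal by rw [huc]; exact zero_mem _)).resolve_left
      fun h' => hu (hQP h')
  have hQeq : Q₀ = Q := hmax Q₀ ((PrimeSpectrum.le_iff_specializes Q₀ Q).1 hle)
  have hIQ : ∀ a ∈ I, Ideal.Quotient.mk J a ∈ Q₀.asIdeal := fun a ha => by
    rw [hQeq]
    show ψ (Ideal.Quotient.mk J a) ∈ z.asIdeal
    rw [show ψ (Ideal.Quotient.mk J a) = π a from rfl, show π a = 0 from ha]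
    exact zero_mem _
  obtain ⟨⟨u, hu⟩, huc⟩ := (IsLocalization.map_eq_zero_iff P'.primeCompl _ _).1 (hIQ a₀ ha₀)
  obtain ⟨u, rfl⟩ := Ideal.Quotient.mk_surjective u
  rw [← map_mul, Ideal.Quotient.eq_zero_iff_mem] at huc
  exact ⟨u, hu, huc⟩

/-- The dimension criterion for smoothness at a prime, over a field. -/
theorem isSmoothAt_of_finrank_le {B : Type u} [CommRing B] [Algebra k B] [Algebra.FiniteType k B]
    (P : Ideal B) [P.IsPrime]
    (h : ((Module.finrank P.ResidueField (P.ResidueField ⊗[B] Ω[B⁄k]) : ℕ) : WithBot ℕ∞) ≤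
      FlatMor.fibreDimAt (Spec.map (CommRingCat.ofHom (algebraMap k B))) ⟨P, inferInstance⟩) :
    Algebra.IsSmoothAt k P := by
  classical
  obtain ⟨n, π, hπ⟩ := Algebra.FiniteType.iff_quotient_mvPolynomial''.1 ‹Algebra.FiniteType k B›
  let A := MvPolynomial (Fin n) k
  letI : Algebra A B := π.toRingHom.toAlgebra
  haveI : IsScalarTower k A B := IsScalarTower.of_algebraMap_eq' π.comp_algebraMap.symm
  let K := P.ResidueField
  let q : Ideal A := P.comap π.toRingHom
  let I : Ideal A := RingHom.ker π.toRingHom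
  haveI : IsScalarTower k A K := IsScalarTower.of_algebraMap_eq fun c => by
    rw [IsScalarTower.algebraMap_apply A B K, ← IsScalarTower.algebraMap_apply k A B,
      ← IsScalarTower.algebraMap_apply k B K]
  haveI : Module.Finite A Ω[A⁄k] :=
    Module.Finite.of_basis (KaehlerDifferential.mvPolynomialBasis k (Fin n))
  haveI : Algebra.Smooth k A := ⟨inferInstance, inferInstance⟩
  have hd := finrank_le_add_relSpan π (fun _ => rfl) hπ K
  obtain ⟨S₀, hS₀, hli, hspan⟩ := exists_relations π K
  let J : Ideal A := Ideal.span (↑S₀ : Set A)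
  have hJI : J ≤ I := Ideal.span_le.2 fun a ha => hS₀ a ha
  let C := A ⧸ J
  let ψ : C →ₐ[k] B := Ideal.Quotient.liftₐ J π fun a ha => RingHom.mem_ker.1 (hJI ha)
  let P' : Ideal C := P.comap ψ.toRingHom
  have hliq : LinearIndependent q.ResidueField (fun a : ↥S₀ => (1 : q.ResidueField) ⊗ₜ[A] D k A (a : A)) :=
    linearIndependent_of_residueField q K (Ideal.ResidueField.mapₐ q P (Algebra.ofId A B) rfl) _ hli
  haveI : Algebra.IsSmoothAt k P' := (Groth.Agent.H9Jac.main J P').2
    ⟨S₀, Ideal.subset_span, Ideal.map_span _ _, hliq⟩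
  -- the fibre dimension of the smooth model
  letI : Algebra C B := ψ.toRingHom.toAlgebra
  haveI : IsScalarTower A C K := IsScalarTower.of_algebraMap_eq fun a =>
    (IsScalarTower.algebraMap_apply A B K a).trans
      (IsScalarTower.algebraMap_apply C B K (Ideal.Quotient.mk J a)).symm
  have hCK : RingHom.ker (algebraMap C K) = P' := by
    rw [IsScalarTower.algebraMap_eq C B K, ← RingHom.comap_ker, Ideal.ker_algebraMap_residueField]
    rfl
  have hCdim := fibreDimAt_le_of_isSmoothAt (k := k) P' K hCK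
  have hCn : Module.finrank K (K ⊗[C] Ω[C⁄k]) + Module.finrank K (relSpan π K) ≤ Module.finrank K (K ⊗[A] Ω[A⁄k]) := by
    exact finrank_tensor_quotient_add_le π K (fun a => rfl) hspan
      (fun a ha => Ideal.Quotient.eq_zero_iff_mem.2 (Ideal.subset_span ha))
      Ideal.Quotient.mk_surjective
  have hdn : Module.finrank K (K ⊗[C] Ω[C⁄k]) ≤ Module.finrank K (K ⊗[B] Ω[B⁄k]) :=
    Nat.le_of_add_le_add_right (hCn.trans hd)
  have hmul := exists_mul_mem π hπ J hJI P (by
    refine hCdim.trans_le (le_trans ?_ h)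
    exact_mod_cast hdn)
  -- back to `B`
  let PI : Ideal (A ⧸ I) := P.comap (Ideal.Quotient.lift I π.toRingHom fun a ha => ha)
  haveI hPI : Algebra.IsSmoothAt k PI := by
    refine (Groth.Agent.H9Jac.main I PI).2 ⟨S₀, fun a ha => hJI (Ideal.subset_span ha), ?_, hliq⟩
    rw [← Ideal.map_span]
    refine le_antisymm (Ideal.map_le_iff_le_comap.2 fun a ha => ?_) (Ideal.map_mono hJI)
    obtain ⟨u, hu, huc⟩ := hmul a ha
    rw [Ideal.mem_comap]
    have hunit : IsUnit (algebraMap A (Localization.AtPrime (PI.comap (Ideal.Quotient.mk I))) u) :=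
      IsLocalization.map_units _ (⟨u, hu⟩ : (PI.comap (Ideal.Quotient.mk I)).primeCompl)
    rw [← Ideal.unit_mul_mem_iff_mem _ hunit, ← map_mul]
    exact Ideal.mem_map_of_mem _ huc
  let ε : (A ⧸ I) ≃ₐ[k] B := Ideal.quotientKerAlgEquivOfSurjective hπ
  have hε : ∀ x, ε x = Ideal.Quotient.lift I π.toRingHom (fun a ha => ha) x := fun x => by
    obtain ⟨a, rfl⟩ := Ideal.Quotient.mk_surjective x
    rfl
  have hmap : Submonoid.map ε PI.primeCompl = P.primeCompl := by
    ext b
    refine ⟨?_, fun hb => ⟨ε.symm b, ?_, ε.apply_symm_apply b⟩⟩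
    · rintro ⟨x, hx, rfl⟩
      show ε x ∉ P
      rw [hε]; exact hx
    · show Ideal.Quotient.lift I π.toRingHom (fun a ha => ha) (ε.symm b) ∉ P
      rw [← hε, ε.apply_symm_apply]; exact hb
  let E : Localization.AtPrime PI ≃ₐ[k] Localization.AtPrime P :=
    IsLocalization.algEquivOfAlgEquiv (Localization.AtPrime PI) (Localization.AtPrime P) ε hmap
  haveI : Algebra.FormallySmooth k (Localization.AtPrime PI) := hPI
  exact @Algebra.FormallySmooth.of_equiv k _ (Localization.AtPrime PI) (Localization.AtPrime P) _ _ _ _ hPI E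

/-- The fibre dimension is at most the rank of the differentials, over a field. -/
theorem fibreDimAt_le_finrank {B : Type u} [CommRing B] [Algebra k B] [Algebra.FiniteType k B]
    (P : Ideal B) [P.IsPrime] :
    FlatMor.fibreDimAt (Spec.map (CommRingCat.ofHom (algebraMap k B))) ⟨P, inferInstance⟩ ≤
      ((Module.finrank P.ResidueField (P.ResidueField ⊗[B] Ω[B⁄k]) : ℕ) : WithBot ℕ∞) := by
  classical
  obtain ⟨n, π, hπ⟩ := Algebra.FiniteType.iff_quotient_mvPolynomial''.1 ‹Algebra.FiniteType k B›
  let A := MvPolynomial (Fin n) k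
  letI : Algebra A B := π.toRingHom.toAlgebra
  haveI : IsScalarTower k A B := IsScalarTower.of_algebraMap_eq' π.comp_algebraMap.symm
  let K := P.ResidueField
  let q : Ideal A := P.comap π.toRingHom
  let I : Ideal A := RingHom.ker π.toRingHom
  haveI : IsScalarTower k A K := IsScalarTower.of_algebraMap_eq fun c => by
    rw [IsScalarTower.algebraMap_apply A B K, ← IsScalarTower.algebraMap_apply k A B,
      ← IsScalarTower.algebraMap_apply k B K]
  haveI : Module.Finite A Ω[A⁄k] :=
    Module.Finite.of_basis (KaehlerDifferential.mvPolynomialBasis k (Fin n))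
  haveI : Algebra.Smooth k A := ⟨inferInstance, inferInstance⟩
  have hd := finrank_le_add_relSpan π (fun _ => rfl) hπ K
  obtain ⟨S₀, hS₀, hli, hspan⟩ := exists_relations π K
  let J : Ideal A := Ideal.span (↑S₀ : Set A)
  have hJI : J ≤ I := Ideal.span_le.2 fun a ha => hS₀ a ha
  let C := A ⧸ J
  let ψ : C →ₐ[k] B := Ideal.Quotient.liftₐ J π fun a ha => RingHom.mem_ker.1 (hJI ha)
  let P' : Ideal C := P.comap ψ.toRingHom
  have hliq : LinearIndependent q.ResidueField (fun a : ↥S₀ => (1 : q.ResidueField) ⊗ₜ[A] D k A (a : A)) :=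
    linearIndependent_of_residueField q K (Ideal.ResidueField.mapₐ q P (Algebra.ofId A B) rfl) _ hli
  haveI : Algebra.IsSmoothAt k P' := (Groth.Agent.H9Jac.main J P').2
    ⟨S₀, Ideal.subset_span, Ideal.map_span _ _, hliq⟩
  -- the fibre dimension of the smooth model
  letI : Algebra C B := ψ.toRingHom.toAlgebra
  haveI : IsScalarTower A C K := IsScalarTower.of_algebraMap_eq fun a =>
    (IsScalarTower.algebraMap_apply A B K a).trans
      (IsScalarTower.algebraMap_apply C B K (Ideal.Quotient.mk J a)).symm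
  have hCK : RingHom.ker (algebraMap C K) = P' := by
    rw [IsScalarTower.algebraMap_eq C B K, ← RingHom.comap_ker, Ideal.ker_algebraMap_residueField]
    rfl
  have hCdim := fibreDimAt_le_of_isSmoothAt (k := k) P' K hCK
  have hCn : Module.finrank K (K ⊗[C] Ω[C⁄k]) + Module.finrank K (relSpan π K) ≤ Module.finrank K (K ⊗[A] Ω[A⁄k]) := by
    exact finrank_tensor_quotient_add_le π K (fun a => rfl) hspan
      (fun a ha => Ideal.Quotient.eq_zero_iff_mem.2 (Ideal.subset_span ha))
      Ideal.Quotient.mk_surjective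
  have hdn : Module.finrank K (K ⊗[C] Ω[C⁄k]) ≤ Module.finrank K (K ⊗[B] Ω[B⁄k]) :=
    Nat.le_of_add_le_add_right (hCn.trans hd)
  let i : Spec (CommRingCat.of B) ⟶ Spec (CommRingCat.of C) := Spec.map (CommRingCat.ofHom ψ.toRingHom)
  haveI : IsClosedImmersion i := IsClosedImmersion.spec_of_surjective _ fun b =>
    (hπ b).elim fun a ha => ⟨Ideal.Quotient.mk J a, ha⟩
  let fC := Spec.map (CommRingCat.ofHom (algebraMap k C))
  haveI : LocallyOfFiniteType fC := by
    rw [HasRingHomProperty.Spec_iff (P := @LocallyOfFiniteType)]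
    exact RingHom.finiteType_algebraMap.2 inferInstance
  have hfB : Spec.map (CommRingCat.ofHom (algebraMap k B)) = i ≫ fC := by
    simp only [i, fC, ← Spec.map_comp, ← CommRingCat.ofHom_comp]
    congr 2
    exact ψ.comp_algebraMap.symm
  rw [hfB]
  obtain ⟨z, hz, -, -, hdz⟩ := Groth.Agent.FibDim.exists_fibMax_generization (i ≫ fC) ⟨P, inferInstance⟩
  have hri : Groth.Agent.FibDim.rd i z = 0 := by
    have h1 := Groth.Agent.FibDim.rd_eq_rdeg i z
    rw [Groth.Agent.VarDim.rdeg_preimmersion i] at h1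
    exact_mod_cast h1
  rw [hdz, Groth.Agent.FibDim.rd_comp, hri, add_zero]
  refine (Groth.Agent.FibDim.fibreDimAt_ge_rd fC (hz.map i.continuous)).trans ?_
  refine hCdim.trans_le ?_
  exact_mod_cast hdn

/-- Over a field the fibre dimension is the local dimension of the spectrum. -/
theorem fibreDimAt_eq_localDim {B : Type u} [CommRing B] [Algebra k B] (q : PrimeSpectrum B) :
    FlatMor.fibreDimAt (Spec.map (CommRingCat.ofHom (algebraMap k B))) q =
      FlatMor.localDim (PrimeSpectrum B) q := by
  let f := Spec.map (CommRingCat.ofHom (algebraMap k B))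
  haveI : Subsingleton ↥(Spec (CommRingCat.of k)) := Groth.Agent.FibDim.subsingleton_spec_field k
  let e : ↥(f.fiber (f q)) ≃ₜ ↥(Spec (CommRingCat.of B)) :=
    (f.fiberHomeo (f q)).trans ((Homeomorph.setCongr
      (Set.eq_univ_of_forall fun w => Subsingleton.elim (f w) (f q))).trans (Homeomorph.Set.univ _))
  exact (Groth.Agent.FibDim.localDim_homeomorph e (f.asFiber q)).symm.trans
    (congrArg (FlatMor.localDim _) (f.fiberι_asFiber q))

end Groth.Agent.SmoothField
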