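import Groth.Agent.SmoothField.DimCrit
import Groth.Agent.FibDim.RingLoc
import Groth.Agent.MorLib.SmoothAlg

/-!
# Smoothness of a flat algebra from the rank of the differentials and the fibre dimension
-/

set_option autoImplicit false
set_option linter.style.haveILetI false
set_option backward.isDefEq.respectTransparency false
set_option backward.isDefEq.respectTransparency.types false

universe u
set_option maxHeartbeats 1600000

open AlgebraicGeometry CategoryTheory TensorProduct KaehlerDifferential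

namespace Groth.Agent.SmoothField

attribute [local instance] Algebra.TensorProduct.rightAlgebra

theorem isSmoothAt_of_flat_of_finrank_le {A B : Type u} [CommRing A] [CommRing B] [Algebra A B]
    [Algebra.FinitePresentation A B] [Module.Flat A B] (q : Ideal B) [q.IsPrime]
    (h : ((Module.finrank q.ResidueField (q.ResidueField ⊗[B] Ω[B⁄A]) : ℕ) : WithBot ℕ∞) ≤
      FlatMor.fibreDimAt (Spec.map (CommRingCat.ofHom (algebraMap A B))) ⟨q, inferInstance⟩) :
    Algebra.IsSmoothAt A q := by
  let p : Ideal A := q.under A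
  haveI : q.LiesOver p := ⟨rfl⟩
  let k := p.ResidueField
  let F := k ⊗[A] B
  obtain ⟨Q, hQ⟩ := Groth.Agent.FibDim.exists_fiber_point (A := A) (⟨q, inferInstance⟩ : PrimeSpectrum B)
  rw [← Groth.Agent.FibDim.localDim_fiber_eq_fibreDimAt ⟨q, inferInstance⟩ Q hQ,
    ← fibreDimAt_eq_localDim (k := k) (B := F) Q] at h
  let K := Q.asIdeal.ResidueField
  haveI : Algebra.IsPushout A k B F := inferInstance
  letI : Algebra q.ResidueField K :=
    (Ideal.ResidueField.mapₐ q Q.asIdeal (Algebra.ofId B F) hQ.symm).toRingHom.toAlgebra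
  haveI : IsScalarTower B q.ResidueField K := IsScalarTower.of_algebraMap_eq fun b =>
    ((Ideal.ResidueField.mapₐ q Q.asIdeal (Algebra.ofId B F) hQ.symm).commutes b).symm
  have e : K ⊗[F] Ω[F⁄k] ≃ₗ[K] K ⊗[q.ResidueField] (q.ResidueField ⊗[B] Ω[B⁄A]) :=
    ((AlgebraTensorModule.congr (LinearEquiv.refl K K) (tensorKaehlerEquiv A k B F).symm) ≪≫ₗ
      AlgebraTensorModule.cancelBaseChange B F K K Ω[B⁄A]) ≪≫ₗ
      (AlgebraTensorModule.cancelBaseChange B q.ResidueField K K Ω[B⁄A]).symm
  have hrank : Module.finrank K (K ⊗[F] Ω[F⁄k]) =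
      Module.finrank q.ResidueField (q.ResidueField ⊗[B] Ω[B⁄A]) := by
    rw [e.finrank_eq, Module.finrank_baseChange]
  have hsm : Algebra.IsSmoothAt k Q.asIdeal :=
    isSmoothAt_of_finrank_le (k := k) Q.asIdeal (hrank ▸ h)
  refine Groth.Agent.MorLib.SmoothAlg.isSmoothAt_of_fiber p q ?_ Q.asIdeal hQ hsm
  let := Localization.AtPrime.algebraOfLiesOver p q
  haveI : Module.Flat A (Localization.AtPrime q) := Module.Flat.trans A B _
  exact (Module.flat_iff_of_isLocalization (Localization.AtPrime p) p.primeCompl _).2 inferInstance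

theorem fibreDimAt_le_finrank_fibre {A B : Type u} [CommRing A] [CommRing B] [Algebra A B]
    [Algebra.FiniteType A B] (q : Ideal B) [q.IsPrime] :
    FlatMor.fibreDimAt (Spec.map (CommRingCat.ofHom (algebraMap A B))) ⟨q, inferInstance⟩ ≤
      ((Module.finrank q.ResidueField (q.ResidueField ⊗[B] Ω[B⁄A]) : ℕ) : WithBot ℕ∞) := by
  let p : Ideal A := q.under A
  let k := p.ResidueField
  let F := k ⊗[A] B
  obtain ⟨Q, hQ⟩ := Groth.Agent.FibDim.exists_fiber_point (A := A) (⟨q, inferInstance⟩ : PrimeSpectrum B)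
  rw [← Groth.Agent.FibDim.localDim_fiber_eq_fibreDimAt ⟨q, inferInstance⟩ Q hQ,
    ← fibreDimAt_eq_localDim (k := k) (B := F) Q]
  let K := Q.asIdeal.ResidueField
  haveI : Algebra.IsPushout A k B F := inferInstance
  letI : Algebra q.ResidueField K :=
    (Ideal.ResidueField.mapₐ q Q.asIdeal (Algebra.ofId B F) hQ.symm).toRingHom.toAlgebra
  haveI : IsScalarTower B q.ResidueField K := IsScalarTower.of_algebraMap_eq fun b =>
    ((Ideal.ResidueField.mapₐ q Q.asIdeal (Algebra.ofId B F) hQ.symm).commutes b).symm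
  have e : K ⊗[F] Ω[F⁄k] ≃ₗ[K] K ⊗[q.ResidueField] (q.ResidueField ⊗[B] Ω[B⁄A]) :=
    ((AlgebraTensorModule.congr (LinearEquiv.refl K K) (tensorKaehlerEquiv A k B F).symm) ≪≫ₗ
      AlgebraTensorModule.cancelBaseChange B F K K Ω[B⁄A]) ≪≫ₗ
      (AlgebraTensorModule.cancelBaseChange B q.ResidueField K K Ω[B⁄A]).symm
  have hrank : Module.finrank K (K ⊗[F] Ω[F⁄k]) =
      Module.finrank q.ResidueField (q.ResidueField ⊗[B] Ω[B⁄A]) := by
    rw [e.finrank_eq, Module.finrank_baseChange]
  rw [← hrank]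
  exact fibreDimAt_le_finrank (k := k) Q.asIdeal

end Groth.Agent.SmoothField
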