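import Groth.Agent.SmoothField.GenericSmooth
import Groth.Agent.GrpSchLib.Core
import Groth.Agent.FlatPtDesc.Basic

/-!
# Orbit maps of homogeneous spaces in characteristic zero
-/

set_option autoImplicit false
set_option linter.style.haveILetI false
set_option backward.isDefEq.respectTransparency false
set_option backward.isDefEq.respectTransparency.types false

universe u

open AlgebraicGeometry CategoryTheory MonoidalCategory CartesianMonoidalCategory MonObj TopologicalSpace

namespace Groth.Agent.SmoothField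

variable {S : Scheme.{u}} {G X : Over S} [GrpObj G] (a : AlgGrp.Action G X)

/-- Left translation by a section. -/
noncomputable def lT (z : 𝟙_ (Over S) ⟶ G) : G ≅ G where
  hom := (toUnit G ≫ z) * 𝟙 G
  inv := (toUnit G ≫ z)⁻¹ * 𝟙 G
  hom_inv_id := by
    rw [MonObj.comp_mul, GrpObj.comp_inv, ← Category.assoc, comp_toUnit, Category.comp_id, ← _root_.mul_assoc,
      inv_mul_cancel, _root_.one_mul]
  inv_hom_id := by
    rw [MonObj.comp_mul, ← Category.assoc, comp_toUnit, Category.comp_id, ← _root_.mul_assoc,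
      mul_inv_cancel, _root_.one_mul]

/-- The translation of the space by a section. -/
noncomputable def aT (z : 𝟙_ (Over S) ⟶ G) : X ≅ X where
  hom := lift (toUnit X ≫ z) (𝟙 X) ≫ a.act
  inv := lift (toUnit X ≫ z)⁻¹ (𝟙 X) ≫ a.act
  hom_inv_id := by
    rw [← Category.assoc (lift (toUnit X ≫ z) (𝟙 X) ≫ a.act), comp_lift, Category.comp_id, GrpObj.comp_inv,
      ← Category.assoc _ (toUnit X) z, comp_toUnit, GrpSchLib.act_mul, inv_mul_cancel, GrpSchLib.act_one]
  inv_hom_id := by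
    rw [← Category.assoc (lift (toUnit X ≫ z)⁻¹ (𝟙 X) ≫ a.act), comp_lift, Category.comp_id,
      ← Category.assoc _ (toUnit X) z, comp_toUnit, GrpSchLib.act_mul, mul_inv_cancel, GrpSchLib.act_one]

theorem lT_orbitMap (o : 𝟙_ (Over S) ⟶ X) (z : 𝟙_ (Over S) ⟶ G) :
    (lT z).hom ≫ a.orbitMap o = a.orbitMap o ≫ (aT a z).hom := by
  rw [GrpSchLib.comp_orbitMap]
  show _ = a.orbitMap o ≫ lift (toUnit X ≫ z) (𝟙 X) ≫ a.act
  rw [← Category.assoc, comp_lift, Category.comp_id, ← Category.assoc (a.orbitMap o), comp_toUnit]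
  show _ = lift (toUnit G ≫ z) (lift (𝟙 G) (toUnit G ≫ o) ≫ a.act) ≫ a.act
  rw [GrpSchLib.act_mul]
  rfl

theorem comp_lT (w z : 𝟙_ (Over S) ⟶ G) : w ≫ (lT z).hom = z * w := by
  show w ≫ ((toUnit G ≫ z) * 𝟙 G) = _
  rw [MonObj.comp_mul, ← Category.assoc, comp_toUnit, Category.comp_id]
  rw [toUnit_unique (toUnit (𝟙_ (Over S))) (𝟙 _), Category.id_comp]

theorem mem_smoothLocus_of_iso {W Y : Scheme.{u}} (g : W ⟶ Y) [LocallyOfFinitePresentation g]
    (l : W ⟶ W) [IsIso l] (m : Y ⟶ Y) [IsIso m] (h : l ≫ g = g ≫ m) {w : W} (hw : l w ∈ g.smoothLocus) :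
    w ∈ g.smoothLocus := by
  obtain ⟨U, hU, hsm⟩ := (FlatPtDesc.exists_smooth_nhd_iff g (l w)).2 hw
  refine (FlatPtDesc.exists_smooth_nhd_iff g w).1 ⟨l ⁻¹ᵁ U, hU, ?_⟩
  have e : (l ⁻¹ᵁ U).ι ≫ g = (l ∣_ U) ≫ (U.ι ≫ g) ≫ inv m := by
    rw [← Category.assoc, ← Category.assoc, morphismRestrict_ι]
    simp [h]
  rw [e]
  infer_instance

theorem smooth_orbitMap {k : Type u} [Field k] [IsAlgClosed k] [CharZero k]
    (G X : Over (Spec (CommRingCat.of k))) [GrpObj G] (a : AlgGrp.Action G X)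
    [IsIntegral G.left] [LocallyOfFiniteType G.hom]
    [IsIntegral X.left] [LocallyOfFiniteType X.hom]
    (htrans : ∀ x x' : 𝟙_ (Over (Spec (CommRingCat.of k))) ⟶ X, ∃ σ : 𝟙_ (Over (Spec (CommRingCat.of k))) ⟶ G,
      CartesianMonoidalCategory.lift σ x ≫ a.act = x')
    (x : 𝟙_ (Over (Spec (CommRingCat.of k))) ⟶ X) : Smooth (a.orbitMap x).left := by
  haveI : IsLocallyNoetherian X.left := LocallyOfFiniteType.isLocallyNoetherian X.hom
  haveI : LocallyOfFiniteType (a.orbitMap x).left := by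
    have : LocallyOfFiniteType ((a.orbitMap x).left ≫ X.hom) := by rw [Over.w]; infer_instance
    exact locallyOfFiniteType_of_comp (a.orbitMap x).left X.hom
  haveI : LocallyOfFinitePresentation (a.orbitMap x).left :=
    LocallyOfFinitePresentation.iff_locallyOfFiniteType.2 ‹_›
  haveI : JacobsonSpace G.left := LocallyOfFiniteType.jacobsonSpace G.hom
  haveI : JacobsonSpace X.left := LocallyOfFiniteType.jacobsonSpace X.hom
  have hpt : ∀ {W : Over (Spec (CommRingCat.of k))} [LocallyOfFiniteType W.hom] {w : W.left},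
      IsClosed ({w} : Set W.left) →
      ∃ s : 𝟙_ (Over (Spec (CommRingCat.of k))) ⟶ W, s.left (IsLocalRing.closedPoint k) = w := by
    intro W _ w hw
    let s := (pointEquivClosedPoint W.hom).symm ⟨w, hw⟩
    exact ⟨Over.homMk s.1 s.2, congrArg Subtype.val ((pointEquivClosedPoint W.hom).apply_symm_apply ⟨w, hw⟩)⟩
  have hdom : DenseRange (a.orbitMap x).left := by
    refine Dense.mono ?_ (dense_iff_closure_eq.2 (closure_closedPoints (X := X.left)))
    intro c hc
    obtain ⟨x', hx'⟩ := hpt (W := X) hc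
    obtain ⟨σ, hσ⟩ := htrans x x'
    have e : σ ≫ a.orbitMap x = x' := by
      rw [GrpSchLib.comp_orbitMap, toUnit_unique (toUnit (𝟙_ (Over (Spec (CommRingCat.of k))))) (𝟙 _),
        Category.id_comp, hσ]
    exact ⟨σ.left (IsLocalRing.closedPoint k), (congrArg (fun m => m.left (IsLocalRing.closedPoint k)) e).trans hx'⟩
  have hgen := genericPoint_mem_smoothLocus X.hom (a.orbitMap x).left hdom
  refine Scheme.Hom.smoothLocus_eq_top_iff.1 ?_
  obtain ⟨w, hw, hwc⟩ := nonempty_inter_closedPoints ⟨_, hgen⟩ (a.orbitMap x).left.smoothLocus.2.isLocallyClosed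
  obtain ⟨sw, hsw⟩ := hpt (W := G) hwc
  by_contra hne
  have hne' : (((a.orbitMap x).left.smoothLocus : Set G.left)ᶜ).Nonempty :=
    Set.nonempty_compl.2 fun h => hne (SetLike.coe_injective h)
  obtain ⟨v, hv1, hvc⟩ := nonempty_inter_closedPoints hne'
    (a.orbitMap x).left.smoothLocus.2.isClosed_compl.isLocallyClosed
  obtain ⟨sv, hsv⟩ := hpt (W := G) hvc
  refine hv1 ?_
  haveI : IsIso (lT (sw * sv⁻¹)).hom.left := ((Over.forget _).mapIso (lT (sw * sv⁻¹))).isIso_hom
  haveI : IsIso (aT a (sw * sv⁻¹)).hom.left := ((Over.forget _).mapIso (aT a (sw * sv⁻¹))).isIso_hom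
  refine mem_smoothLocus_of_iso _ (lT (sw * sv⁻¹)).hom.left (aT a (sw * sv⁻¹)).hom.left
    (by rw [← Over.comp_left, ← Over.comp_left, lT_orbitMap]) ?_
  have e2 : sv ≫ (lT (sw * sv⁻¹)).hom = sw := by rw [comp_lT, inv_mul_cancel_right]
  rw [← hsv, show (lT (sw * sv⁻¹)).hom.left (sv.left (IsLocalRing.closedPoint k)) = w from
    (congrArg (fun m => m.left (IsLocalRing.closedPoint k)) e2).trans hsw]
  exact hw

end Groth.Agent.SmoothField
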