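import Groth.Agent.SmoothField.RelDim
import Groth.Agent.SmoothField.Homog
import Groth.Agent.MorLib.SmoothLocus
import Groth.Agent.GrpSchLib.Cartier

/-!
# Kleiman transversality
-/

set_option autoImplicit false
set_option linter.style.haveILetI false
set_option backward.isDefEq.respectTransparency false
set_option backward.isDefEq.respectTransparency.types false

universe u
set_option maxHeartbeats 1600000

open AlgebraicGeometry CategoryTheory CategoryTheory.Limits MonoidalCategory CartesianMonoidalCategory MonObj TopologicalSpace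

namespace Groth.Agent.SmoothField

variable {k : Type u} [Field k] [IsAlgClosed k] [CharZero k]
  {G X : Over (Spec (CommRingCat.of k))} [GrpObj G] (a : AlgGrp.Action G X)
  [LocallyOfFiniteType G.hom] [IsIntegral X.left] [LocallyOfFiniteType X.hom]

local notation "𝟙k" => 𝟙_ (Over (Spec (CommRingCat.of k)))

theorem exists_point {W : Over (Spec (CommRingCat.of k))} [LocallyOfFiniteType W.hom] {w : W.left}
    (hw : IsClosed ({w} : Set W.left)) :
    ∃ s : 𝟙k ⟶ W, s.left (IsLocalRing.closedPoint k) = w := by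
  let s := (pointEquivClosedPoint W.hom).symm ⟨w, hw⟩
  exact ⟨Over.homMk s.1 s.2, congrArg Subtype.val ((pointEquivClosedPoint W.hom).apply_symm_apply ⟨w, hw⟩)⟩

/-- An equivariant morphism to a homogeneous space from a smooth scheme is smooth. -/
theorem smooth_act (htrans : ∀ x x' : 𝟙k ⟶ X, ∃ σ : 𝟙k ⟶ G, lift σ x ≫ a.act = x')
    (Y : Over (Spec (CommRingCat.of k))) [Smooth Y.hom] [QuasiCompact Y.hom] [QuasiCompact G.hom]
    [IsSeparated X.hom] (φ : Y ⟶ X) : Smooth ((G ◁ φ) ≫ a.act).left := by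
  haveI : Smooth G.hom := GrpSchLib.smooth_of_charZero G
  let H := (G ◁ φ) ≫ a.act
  have hP : (G ⊗ Y).hom = pullback.fst G.hom Y.hom ≫ G.hom := rfl
  haveI : Smooth (G ⊗ Y).hom := by rw [hP]; infer_instance
  haveI : QuasiCompact (G ⊗ Y).hom := by rw [hP]; infer_instance
  haveI : IsLocallyNoetherian X.left := LocallyOfFiniteType.isLocallyNoetherian X.hom
  haveI : LocallyOfFiniteType H.left := by
    have : LocallyOfFiniteType (H.left ≫ X.hom) := by rw [Over.w H]; infer_instance
    exact locallyOfFiniteType_of_comp H.left X.hom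
  haveI : LocallyOfFinitePresentation H.left := LocallyOfFinitePresentation.iff_locallyOfFiniteType.2 ‹_›
  haveI : QuasiCompact H.left := by
    have : QuasiCompact (H.left ≫ X.hom) := by rw [Over.w H]; infer_instance
    exact QuasiCompact.of_comp H.left X.hom
  obtain ⟨V, hV, hsm⟩ := exists_smooth_over_open (G ⊗ Y).hom X.hom H.left
  haveI : JacobsonSpace X.left := LocallyOfFiniteType.jacobsonSpace X.hom
  haveI : JacobsonSpace (G ⊗ Y).left := LocallyOfFiniteType.jacobsonSpace (G ⊗ Y).hom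
  obtain ⟨v, hvV, hvc⟩ := nonempty_inter_closedPoints hV V.2.isLocallyClosed
  obtain ⟨xv, hxv⟩ := exists_point (W := X) hvc
  refine Scheme.Hom.smoothLocus_eq_top_iff.1 ?_
  by_contra hne
  have hne' : ((H.left.smoothLocus : Set (G ⊗ Y).left)ᶜ).Nonempty :=
    Set.nonempty_compl.2 fun h => hne (SetLike.coe_injective h)
  obtain ⟨p, hp1, hpc⟩ := nonempty_inter_closedPoints hne' H.left.smoothLocus.2.isClosed_compl.isLocallyClosed
  obtain ⟨sp, hsp⟩ := exists_point (W := G ⊗ Y) hpc
  obtain ⟨z, hz⟩ := htrans (sp ≫ H) xv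
  refine hp1 ?_
  haveI : IsIso ((lT z).hom ▷ Y).left :=
    ((Over.forget _).mapIso (whiskerRightIso (lT z) Y)).isIso_hom
  haveI : IsIso (aT a z).hom.left := ((Over.forget _).mapIso (aT a z)).isIso_hom
  have hcomm : ((lT z).hom ▷ Y) ≫ H = H ≫ (aT a z).hom := by
    show _ ≫ (G ◁ φ) ≫ a.act = _ ≫ lift (toUnit X ≫ z) (𝟙 X) ≫ a.act
    have e1 : ((lT z).hom ▷ Y) ≫ (G ◁ φ) =
        lift (((toUnit (G ⊗ Y) ≫ z)) * fst G Y) (snd G Y ≫ φ) := by
      apply CartesianMonoidalCategory.hom_ext
      · rw [Category.assoc, whiskerLeft_fst, whiskerRight_fst, lift_fst]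
        show fst G Y ≫ ((toUnit G ≫ z) * 𝟙 G) = _
        rw [MonObj.comp_mul, ← Category.assoc, comp_toUnit, Category.comp_id]
      · simp
    rw [reassoc_of% e1, ← Category.assoc H, comp_lift, Category.comp_id, ← Category.assoc H, comp_toUnit]
    have e2 : H = lift (fst G Y) (snd G Y ≫ φ) ≫ a.act := by
      show (G ◁ φ) ≫ a.act = _
      congr 1
    rw [e2, GrpSchLib.act_mul]
  refine mem_smoothLocus_of_iso _ ((lT z).hom ▷ Y).left (aT a z).hom.left
    (by rw [← Over.comp_left, ← Over.comp_left, hcomm]) (hsm _ ?_)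
  have e3 : sp ≫ ((lT z).hom ▷ Y) ≫ H = xv := by
    rw [hcomm, ← Category.assoc]
    show _ ≫ lift (toUnit X ≫ z) (𝟙 X) ≫ a.act = _
    rw [← Category.assoc (sp ≫ H), comp_lift, Category.comp_id, ← Category.assoc (sp ≫ H), comp_toUnit,
      toUnit_unique (toUnit 𝟙k) (𝟙 _), Category.id_comp, hz]
  rw [← hsp]
  show H.left (((lT z).hom ▷ Y).left (sp.left (IsLocalRing.closedPoint k))) ∈ V
  rw [show H.left (((lT z).hom ▷ Y).left (sp.left (IsLocalRing.closedPoint k))) = v from
    (congrArg (fun m => m.left (IsLocalRing.closedPoint k)) e3).trans hxv]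
  exact hvV

theorem kleiman [IsIntegral G.left] [QuasiCompact G.hom] [IsSeparated X.hom]
    (htrans : ∀ x x' : 𝟙k ⟶ X, ∃ σ : 𝟙k ⟶ G, lift σ x ≫ a.act = x')
    {Y Z : Scheme.{u}} (f : Y ⟶ X.left) (g : Z ⟶ X.left)
    [IsIntegral Y] [QuasiCompact (f ≫ X.hom)] [Smooth (f ≫ X.hom)]
    [IsIntegral Z] [QuasiCompact (g ≫ X.hom)] [Smooth (g ≫ X.hom)]
    (n r s : ℕ) (hn : topologicalKrullDim ↥X.left = n) (hr : topologicalKrullDim ↥Y = r)
    (hs : topologicalKrullDim ↥Z = s) :
    ∃ V : G.left.Opens, (V : Set G.left).Nonempty ∧ ∀ σ : 𝟙k ⟶ G,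
      Set.range σ.left.base ⊆ (V : Set G.left) → ∀ fσ : Y ⟶ X.left,
        fσ = (lift (toUnit (Over.mk (f ≫ X.hom)) ≫ σ) (Over.homMk f) ≫ a.act).left →
        Smooth (pullback.fst fσ g ≫ f ≫ X.hom) ∧ (IsEmpty ↥(pullback fσ g) ∨
          (n ≤ r + s ∧ topologicalKrullDim ↥(pullback fσ g) = ((r + s - n : ℕ) : WithBot ℕ∞))) := by
  classical
  haveI : Smooth G.hom := GrpSchLib.smooth_of_charZero G
  let Yo : Over (Spec (CommRingCat.of k)) := Over.mk (f ≫ X.hom)
  let φ : Yo ⟶ X := Over.homMk f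
  haveI : Smooth Yo.hom := inferInstanceAs (Smooth (f ≫ X.hom))
  haveI : QuasiCompact Yo.hom := inferInstanceAs (QuasiCompact (f ≫ X.hom))
  let H : G ⊗ Yo ⟶ X := (G ◁ φ) ≫ a.act
  haveI hHsm : Smooth H.left := smooth_act a htrans Yo φ
  -- dimensions of `G ⊗ Y`
  haveI : IsLocallyNoetherian G.left := LocallyOfFiniteType.isLocallyNoetherian G.hom
  haveI : IsLocallyNoetherian X.left := LocallyOfFiniteType.isLocallyNoetherian X.hom
  obtain ⟨c, hc⟩ := exists_closedPoint G.hom
  let dG := DimFormula.codim c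
  haveI : Subsingleton ↥(Spec (CommRingCat.of k)) := FibDim.subsingleton_spec_field k
  obtain ⟨dG', hdG'⟩ : ∃ d : ℕ, topologicalKrullDim ↥G.left = d := by
    refine ⟨FibDim.rd G.hom (genericPoint G.left), ?_⟩
    have h2 := FibDim.topologicalKrullDim_closure G.hom (genericPoint G.left)
    rw [(genericPoint_spec G.left).def, (Homeomorph.Set.univ G.left).isHomeomorph.topologicalKrullDim_eq] at h2
    exact_mod_cast h2
  haveI hG := smoothOfRelativeDimension_of_integral G.hom dG' hdG'
  haveI hY := smoothOfRelativeDimension_of_integral (f ≫ X.hom) r hr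
  haveI hZ := smoothOfRelativeDimension_of_integral (g ≫ X.hom) s hs
  haveI := smoothOfRelativeDimension_isStableUnderBaseChange (n := r)
  haveI hfst : SmoothOfRelativeDimension r (pullback.fst G.hom Yo.hom) :=
    MorphismProperty.of_isPullback (P := @SmoothOfRelativeDimension r)
      (IsPullback.of_hasPullback G.hom Yo.hom).flip hY
  haveI hP : SmoothOfRelativeDimension (r + dG') (G ⊗ Yo).hom :=
    smoothOfRelativeDimension_comp r dG' (pullback.fst G.hom Yo.hom) G.hom
  haveI : Smooth (G ⊗ Yo).hom := SmoothOfRelativeDimension.smooth (r + dG') _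
  have hXc : ∀ x : X.left, IsClosed ({x} : Set X.left) → DimFormula.codim x = n := by
    intro x hx
    have h1 := codim_add_rd_eq X.hom x hn
    have h2 := rd_eq_zero_of_isClosed X.hom hx
    omega
  obtain ⟨hH, hle⟩ := smoothOfRelativeDimension_of_codim (G ⊗ Yo).hom X.hom H.left (Over.w H) (r + dG') n
    (fun x hx => codim_of_smoothOfRelativeDimension (G ⊗ Yo).hom (r + dG') hx) hXc
  haveI := hH
  -- the incidence scheme
  let W := pullback H.left g
  let qW : W ⟶ Spec (CommRingCat.of k) := pullback.snd H.left g ≫ g ≫ X.hom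
  haveI := smoothOfRelativeDimension_isStableUnderBaseChange (n := r + dG' - n)
  haveI hsnd : SmoothOfRelativeDimension (r + dG' - n) (pullback.snd H.left g) :=
    MorphismProperty.of_isPullback (P := @SmoothOfRelativeDimension (r + dG' - n))
      (IsPullback.of_hasPullback H.left g) hH
  haveI hW : SmoothOfRelativeDimension (r + dG' - n + s) qW :=
    smoothOfRelativeDimension_comp (r + dG' - n) s (pullback.snd H.left g) (g ≫ X.hom)
  haveI : Smooth qW := SmoothOfRelativeDimension.smooth (r + dG' - n + s) qW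
  let qG : W ⟶ G.left := pullback.fst H.left g ≫ (fst G Yo).left
  have hfstl : (fst G Yo).left = pullback.fst G.hom Yo.hom := rfl
  have hqG : qG ≫ G.hom = qW := by
    show (pullback.fst H.left g ≫ (fst G Yo).left) ≫ G.hom = pullback.snd H.left g ≫ g ≫ X.hom
    rw [Category.assoc, Over.w (fst G Yo), ← Over.w H, pullback.condition_assoc]
  haveI : LocallyOfFiniteType qG := by
    have : LocallyOfFiniteType (qG ≫ G.hom) := by rw [hqG]; infer_instance
    exact locallyOfFiniteType_of_comp qG G.hom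
  haveI : LocallyOfFinitePresentation qG := LocallyOfFinitePresentation.iff_locallyOfFiniteType.2 ‹_›
  haveI : QuasiCompact g := QuasiCompact.of_comp g X.hom
  haveI : QuasiCompact qG := by
    show QuasiCompact (pullback.fst H.left g ≫ (fst G Yo).left)
    rw [hfstl]; infer_instance
  obtain ⟨V, hV, hsm⟩ := exists_smooth_over_open qW G.hom qG
  refine ⟨V, hV, fun σ hσ fσ hfσ => ?_⟩
  let sl : Yo ⟶ G ⊗ Yo := lift (toUnit Yo ≫ σ) (𝟙 Yo)
  have hsl : sl.left ≫ H.left = fσ := by
    rw [hfσ, ← Over.comp_left]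
    congr 1
    show lift (toUnit Yo ≫ σ) (𝟙 Yo) ≫ (G ◁ φ) ≫ a.act = _
    rw [lift_whiskerLeft_assoc, Category.id_comp]
  have hslice : IsPullback sl.left Yo.hom (fst G Yo).left σ.left := by
    have houter : IsPullback (sl.left ≫ (snd G Yo).left) Yo.hom Yo.hom (σ.left ≫ G.hom) := by
      rw [← Over.comp_left, show sl ≫ snd G Yo = 𝟙 Yo from lift_snd _ _, Over.w σ]
      show IsPullback (𝟙 Yo.left) Yo.hom Yo.hom (𝟙 (Spec (CommRingCat.of k)))
      exact IsPullback.of_horiz_isIso ⟨by simp⟩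
    refine IsPullback.of_right houter ?_ (IsPullback.of_hasPullback G.hom Yo.hom).flip
    rw [← Over.comp_left, show sl ≫ fst G Yo = toUnit Yo ≫ σ from lift_fst _ _]
    rfl
  let j : pullback fσ g ⟶ W := pullback.lift (pullback.fst fσ g ≫ sl.left) (pullback.snd fσ g)
    (by rw [Category.assoc, hsl, pullback.condition])
  have hj₁ : IsPullback j (pullback.fst fσ g) (pullback.fst H.left g) sl.left := by
    refine IsPullback.of_right ?_ (pullback.lift_fst _ _ _) (IsPullback.of_hasPullback H.left g).flip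
    rw [pullback.lift_snd, hsl]
    exact (IsPullback.of_hasPullback fσ g).flip
  let πP : pullback fσ g ⟶ Spec (CommRingCat.of k) := pullback.fst fσ g ≫ f ≫ X.hom
  have hj : IsPullback j πP qG σ.left := hj₁.paste_vert hslice
  have hrange : Set.range σ.left ⊆ Set.range V.ι := by rw [Scheme.Opens.range_ι]; exact hσ
  let σ' := IsOpenImmersion.lift V.ι σ.left hrange
  have hσ' : σ' ≫ V.ι = σ.left := IsOpenImmersion.lift_fac _ _ _
  haveI hqV : Smooth (qG ∣_ V) := by
    haveI : Smooth ((qG ⁻¹ᵁ V).ι ≫ qG) := by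
      refine Scheme.Hom.smoothLocus_eq_top_iff.1 ?_
      rw [← Scheme.Hom.preimage_smoothLocus_eq, eq_top_iff]
      rintro ⟨w, hw⟩ -
      exact hsm w hw
    have : Smooth ((qG ∣_ V) ≫ V.ι) := by rw [morphismRestrict_ι]; infer_instance
    exact MorphismProperty.of_isPullback (P := @Smooth)
      (IsPullback.of_horiz_isIso_mono (fst := 𝟙 _) ⟨by simp⟩ :
        IsPullback (𝟙 _) (qG ∣_ V) ((qG ∣_ V) ≫ V.ι) V.ι) this
  have hjr : Set.range j ⊆ Set.range (qG ⁻¹ᵁ V).ι := by
    rw [Scheme.Opens.range_ι]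
    rintro _ ⟨p, rfl⟩
    exact hσ ⟨πP p, (congrArg (fun m => m p) hj.w).symm⟩
  let j' := IsOpenImmersion.lift (qG ⁻¹ᵁ V).ι j hjr
  have hj'fac : j' ≫ (qG ⁻¹ᵁ V).ι = j := IsOpenImmersion.lift_fac _ _ _
  have hj' : IsPullback j' πP (qG ∣_ V) σ' := by
    refine IsPullback.of_right (by rw [hj'fac, hσ']; exact hj) ?_ (isPullback_morphismRestrict qG V).flip
    rw [← cancel_mono V.ι, Category.assoc, Category.assoc, morphismRestrict_ι, ← Category.assoc, hj'fac,
      hσ', hj.w]
  haveI : Smooth πP := MorphismProperty.of_isPullback (P := @Smooth) hj' hqV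
  refine ⟨‹Smooth πP›, ?_⟩
  by_cases hemp : IsEmpty ↥(pullback fσ g)
  · exact Or.inl hemp
  refine Or.inr ?_
  rw [not_isEmpty_iff] at hemp
  haveI : Nonempty ↥(qG ⁻¹ᵁ V).toScheme := hemp.map j'
  haveI : Nonempty ↥(G ⊗ Yo).left := hemp.map (fun p => pullback.fst H.left g (j p))
  have hn_le : n ≤ r + dG' := hle inferInstance
  haveI : SmoothOfRelativeDimension (r + dG' - n + s) ((qG ⁻¹ᵁ V).ι ≫ qW) := by
    have : SmoothOfRelativeDimension (0 + (r + dG' - n + s)) ((qG ⁻¹ᵁ V).ι ≫ qW) := inferInstance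
    rwa [Nat.zero_add] at this
  haveI : SmoothOfRelativeDimension dG' (V.ι ≫ G.hom) := by
    have : SmoothOfRelativeDimension (0 + dG') (V.ι ≫ G.hom) := inferInstance
    rwa [Nat.zero_add] at this
  obtain ⟨hrel, hle'⟩ := smoothOfRelativeDimension_of_codim ((qG ⁻¹ᵁ V).ι ≫ qW) (V.ι ≫ G.hom) (qG ∣_ V)
    (by rw [← Category.assoc, morphismRestrict_ι, Category.assoc, hqG]) (r + dG' - n + s) dG'
    (fun x hx => codim_of_smoothOfRelativeDimension ((qG ⁻¹ᵁ V).ι ≫ qW) (r + dG' - n + s) hx)
    (fun x hx => codim_of_smoothOfRelativeDimension (V.ι ≫ G.hom) dG' hx)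
  have hle'' := hle' inferInstance
  haveI := smoothOfRelativeDimension_isStableUnderBaseChange (n := r + dG' - n + s - dG')
  haveI : SmoothOfRelativeDimension (r + dG' - n + s - dG') πP :=
    MorphismProperty.of_isPullback (P := @SmoothOfRelativeDimension (r + dG' - n + s - dG')) hj' hrel
  haveI : QuasiCompact πP := by
    have h1 : QuasiCompact (qG ∣_ V) := inferInstance
    exact MorphismProperty.of_isPullback (P := @QuasiCompact) hj' h1
  haveI : CompactSpace ↥(pullback fσ g) := QuasiCompact.compactSpace_of_compactSpace πP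
  refine ⟨by omega, ?_⟩
  rw [ExtShX.SmoothDual.topologicalKrullDim_eq πP (r + dG' - n + s - dG'),
    show r + s - n = r + dG' - n + s - dG' by omega]

end Groth.Agent.SmoothField
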