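import Groth.Agent.SmoothField.GenericSmooth
import Groth.Agent.H23.TopDim
import Groth.Agent.H23.RedSub

/-!
# Rank loci of the tangent map
-/

set_option autoImplicit false
set_option linter.style.haveILetI false
set_option backward.isDefEq.respectTransparency false
set_option backward.isDefEq.respectTransparency.types false

universe u
set_option maxHeartbeats 1600000

open AlgebraicGeometry CategoryTheory IsLocalRing TopologicalSpace

namespace Groth.Agent.SmoothField

/-- A formally smooth local map with trivial residue extension is injective on cotangent spaces. -/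
theorem mem_sq_of_formallySmooth {R S : Type u} [CommRing R] [CommRing S] [IsLocalRing R] [IsLocalRing S]
    [Algebra R S] [IsLocalHom (algebraMap R S)] [Algebra.FormallySmooth R S]
    (hres : ∀ s : S, ∃ r : R, s - algebraMap R S r ∈ maximalIdeal S)
    (a : maximalIdeal R) (ha : algebraMap R S a ∈ maximalIdeal S ^ 2) :
    (a : R) ∈ maximalIdeal R ^ 2 := by
  have hmem : ∀ a ∈ maximalIdeal R, algebraMap R S a ∈ maximalIdeal S := fun a h hu =>
    h (isUnit_of_map_unit (algebraMap R S) _ hu)
  let e : R ⧸ maximalIdeal R ≃+* S ⧸ maximalIdeal S :=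
    RingEquiv.ofBijective (Ideal.quotientMap (maximalIdeal S) (algebraMap R S) hmem)
      ⟨Ideal.quotientMap_injective' (fun z hz hu => hz (hu.map (algebraMap R S))), by
        intro y
        obtain ⟨s, rfl⟩ := Ideal.Quotient.mk_surjective y
        obtain ⟨r, hr⟩ := hres s
        exact ⟨Ideal.Quotient.mk _ r, ((Ideal.Quotient.eq).2 hr).symm⟩⟩
  let f : S →ₐ[R] R ⧸ maximalIdeal R :=
    { toRingHom := (e.symm : _ →+* _).comp (Ideal.Quotient.mk (maximalIdeal S))
      commutes' := fun r => e.injective ((e.apply_symm_apply _).trans rfl) }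
  let g : R ⧸ maximalIdeal R ^ 2 →ₐ[R] R ⧸ maximalIdeal R :=
    Ideal.Quotient.factorₐ R (Ideal.pow_le_self (I := maximalIdeal R) two_ne_zero)
  have hg : Function.Surjective g := Ideal.Quotient.factor_surjective (Ideal.pow_le_self (I := maximalIdeal R) two_ne_zero)
  have hker : RingHom.ker g = (maximalIdeal R).map (Ideal.Quotient.mk (maximalIdeal R ^ 2)) :=
    Ideal.Quotient.factor_ker (Ideal.pow_le_self (I := maximalIdeal R) two_ne_zero)
  have hsq : RingHom.ker g ^ 2 = ⊥ := by
    rw [hker, ← Ideal.map_pow, Ideal.map_quotient_self]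
  obtain ⟨φ, hφ⟩ : ∃ φ : S →ₐ[R] R ⧸ maximalIdeal R ^ 2, g.comp φ = f :=
    ⟨Algebra.FormallySmooth.liftOfSurjective f g hg ⟨2, hsq⟩,
      Algebra.FormallySmooth.comp_liftOfSurjective f g hg ⟨2, hsq⟩⟩
  have hφm : (maximalIdeal S).map φ ≤ RingHom.ker g := by
    refine Ideal.map_le_iff_le_comap.2 fun s hs => ?_
    show g (φ s) = 0
    rw [← AlgHom.comp_apply, hφ]
    show e.symm (Ideal.Quotient.mk (maximalIdeal S) s) = 0
    rw [Ideal.Quotient.eq_zero_iff_mem.2 hs, map_zero]
  have h0 : φ (algebraMap R S a) ∈ RingHom.ker g ^ 2 :=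
    Ideal.pow_right_mono hφm 2 ((Ideal.map_pow φ (maximalIdeal S) 2).le (Ideal.mem_map_of_mem φ ha))
  rw [hsq, Ideal.mem_bot, AlgHom.commutes] at h0
  exact Ideal.Quotient.eq_zero_iff_mem.1 h0

/-- A rank bound for a cotangent map passes to quotients and bounds the source when injective. -/
theorem finrank_le_of_square {A B R S : Type u} [CommRing A] [CommRing B] [CommRing R] [CommRing S]
    [IsLocalRing A] [IsLocalRing B] [IsLocalRing R] [IsLocalRing S]
    [IsNoetherianRing R]
    (ψ : A →+* B) (φ : R →+* S) [IsLocalHom φ] (π : A →+* R) (ρ : B →+* S) [IsLocalHom ψ] [IsLocalHom π] [IsLocalHom ρ]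
    (hπ : Function.Surjective π) (hcomm : ρ.comp ψ = φ.comp π)
    (hres : ∀ s : S, ∃ r : R, s - φ r ∈ maximalIdeal S)
    (hinj : ∀ a : maximalIdeal R, φ a ∈ maximalIdeal S ^ 2 → (a : R) ∈ maximalIdeal R ^ 2)
    (F : Finset (CotangentSpace B)) (r : ℕ) (hF : F.card ≤ r)
    (hspan : ∀ (a : maximalIdeal A) (hb : ψ a ∈ maximalIdeal B),
      (maximalIdeal B).toCotangent ⟨ψ a, hb⟩ ∈ Submodule.span (ResidueField B) (F : Set (CotangentSpace B))) :
    Module.finrank (ResidueField R) (CotangentSpace R) ≤ r := by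
  classical
  have hmR : ∀ a : maximalIdeal R, φ a ∈ maximalIdeal S := fun a hu => a.2 (isUnit_of_map_unit φ _ hu)
  have hmB : ∀ b : maximalIdeal B, ρ b ∈ maximalIdeal S := fun b hu => b.2 (isUnit_of_map_unit ρ _ hu)
  let b := Module.finBasis (ResidueField R) (CotangentSpace R)
  choose a ha using fun i => (maximalIdeal R).toCotangent_surjective (b i)
  let v : Fin (Module.finrank (ResidueField R) (CotangentSpace R)) → CotangentSpace S := fun i =>
    (maximalIdeal S).toCotangent ⟨φ (a i), hmR (a i)⟩
  have hli : LinearIndependent (ResidueField S) v := by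
    rw [Fintype.linearIndependent_iff]
    intro c hc i
    choose s hs using fun j => IsLocalRing.residue_surjective (c j)
    choose t ht using fun j => hres (s j)
    let w : maximalIdeal R := ∑ j, t j • a j
    have hw : φ w ∈ maximalIdeal S ^ 2 := by
      refine (Ideal.toCotangent_eq_zero _ ⟨φ w, hmR w⟩).1 ?_
      have h1 : (⟨φ w, hmR w⟩ : maximalIdeal S) =
          ∑ j, φ (t j) • (⟨φ (a j), hmR (a j)⟩ : maximalIdeal S) := by
        refine Subtype.ext ?_
        simp [w, map_sum]
      rw [h1, map_sum, ← hc]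
      refine Finset.sum_congr rfl fun j _ => ?_
      rw [map_smul, ← hs j]
      show φ (t j) • v j = residue S (s j) • v j
      rw [show residue S (s j) = residue S (φ (t j)) by
        rw [← sub_eq_zero, ← map_sub, residue_eq_zero_iff]; exact ht j]
      rfl
    have h2 : ∑ j, residue R (t j) • b j = 0 := by
      rw [← (Ideal.toCotangent_eq_zero _ w).2 (hinj w hw), map_sum]
      refine Finset.sum_congr rfl fun j _ => ?_
      rw [map_smul, ha]
      rfl
    have h3 := Fintype.linearIndependent_iff.1 b.linearIndependent _ h2 i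
    rw [residue_eq_zero_iff] at h3
    rw [← hs i, residue_eq_zero_iff]
    have := add_mem (ht i) (hmR ⟨t i, h3⟩)
    simpa using this
  choose f hf using fun x : F => (maximalIdeal B).toCotangent_surjective (x : CotangentSpace B)
  let u : F → CotangentSpace S := fun x => (maximalIdeal S).toCotangent ⟨ρ (f x), hmB (f x)⟩
  have hv : ∀ i, v i ∈ Submodule.span (ResidueField S) (Set.range u) := by
    intro i
    obtain ⟨A₀, hA₀⟩ := hπ (a i : R)
    have hA : A₀ ∈ maximalIdeal A := fun hu => (a i).2 (hA₀ ▸ hu.map π)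
    have hb : ψ A₀ ∈ maximalIdeal B := fun hu => hA (isUnit_of_map_unit ψ _ hu)
    have h1 := hspan ⟨A₀, hA⟩ hb
    rw [show (F : Set (CotangentSpace B)) = Set.range ((maximalIdeal B).toCotangent ∘ f) by
      ext z
      simp [hf], Submodule.mem_span_range_iff_exists_fun] at h1
    obtain ⟨c, hc⟩ := h1
    choose s hs using fun j => IsLocalRing.residue_surjective (c j)
    have h2 : (maximalIdeal B).toCotangent (⟨ψ A₀, hb⟩ - ∑ j, s j • f j) = 0 := by
      rw [map_sub, sub_eq_zero, map_sum, ← hc]
      refine Finset.sum_congr rfl fun j _ => ?_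
      rw [map_smul, ← hs j]
      rfl
    have h3 : ρ ((⟨ψ A₀, hb⟩ - ∑ j, s j • f j : maximalIdeal B) : B) ∈ maximalIdeal S ^ 2 :=
      Ideal.pow_right_mono (Ideal.map_le_iff_le_comap.2 (fun z hz => hmB ⟨z, hz⟩) :
        (maximalIdeal B).map ρ ≤ maximalIdeal S) 2
        ((Ideal.map_pow ρ _ 2).le (Ideal.mem_map_of_mem ρ ((Ideal.toCotangent_eq_zero _ _).1 h2)))
    have h4 : v i = (maximalIdeal S).toCotangent (∑ j, ρ (s j) • (⟨ρ (f j), hmB (f j)⟩ : maximalIdeal S)) := by
      rw [Ideal.toCotangent_eq]
      have hcA : ρ (ψ A₀) = φ (a i) := by rw [← hA₀]; exact RingHom.congr_fun hcomm A₀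
      simpa [map_sub, map_sum, hcA] using h3
    rw [h4, map_sum]
    refine Submodule.sum_mem _ fun j _ => ?_
    rw [map_smul]
    exact Submodule.smul_mem (Submodule.span (ResidueField S) (Set.range u)) (residue S (ρ (s j)))
      (Submodule.subset_span (⟨j, rfl⟩ : u j ∈ Set.range u))
  let W : Submodule (ResidueField S) (CotangentSpace S) := Submodule.span (ResidueField S) (Set.range u)
  haveI : Module.Finite (ResidueField S) W := Module.Finite.span_of_finite _ (Set.finite_range u)
  have hli' : LinearIndependent (ResidueField S) (fun i => (⟨v i, hv i⟩ : W)) :=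
    LinearIndependent.of_comp W.subtype hli
  have h5 := hli'.fintype_card_le_finrank
  have h6 : Module.finrank (ResidueField S) W ≤ Fintype.card F := finrank_range_le_card u
  rw [Fintype.card_fin] at h5
  rw [Fintype.card_coe] at h6
  exact h5.trans (h6.trans hF)

theorem dim_union_le {Y : Type u} [TopologicalSpace Y] {A B : Set Y} (hA : IsClosed A) (hB : IsClosed B)
    {c : WithBot ℕ∞} (h1 : topologicalKrullDim ↥A ≤ c) (h2 : topologicalKrullDim ↥B ≤ c) :
    topologicalKrullDim ↥(A ∪ B) ≤ c := by
  refine H23.TopDim.dim_le fun p => ?_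
  have h : ∀ C : Set Y, (p.last : Set ↥(A ∪ B)) ⊆ Subtype.val ⁻¹' C → topologicalKrullDim ↥C ≤ c →
      (p.length : WithBot ℕ∞) ≤ c := by
    intro C hC hdC
    refine (H23.TopDim.length_le_dim_subset p hC).trans (le_trans ?_ hdC)
    exact Topology.IsInducing.topologicalKrullDim_le (f := fun z => (⟨z.1.1, z.2⟩ : ↥C))
      ((Topology.IsInducing.subtypeVal.comp Topology.IsInducing.subtypeVal).codRestrict _)
  rcases isPreirreducible_iff_isClosed_union_isClosed.1 p.last.isIrreducible.2 _ _
    (hA.preimage continuous_subtype_val) (hB.preimage continuous_subtype_val)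
    (fun z _ => z.2) with h3 | h3
  · exact h A h3 h1
  · exact h B h3 h2

variable {k : Type u} [Field k] [IsAlgClosed k] [CharZero k] {X Y : Scheme.{u}}

theorem dim_closure_image_le_of_irreducible (qX : X ⟶ Spec (CommRingCat.of k))
    (qY : Y ⟶ Spec (CommRingCat.of k))
    [LocallyOfFiniteType qX] [QuasiCompact qX] [LocallyOfFiniteType qY]
    (f : X ⟶ Y) (hf : f ≫ qY = qX) (r : ℕ) (S : Set X)
    (hS : ∀ x ∈ S, IsClosed ({x} : Set X) ∧ ∃ F : Finset (CotangentSpace (X.presheaf.stalk x)), F.card ≤ r ∧
      ∀ (a : maximalIdeal (Y.presheaf.stalk (f x))) (hb : f.stalkMap x a ∈ maximalIdeal (X.presheaf.stalk x)),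
        (maximalIdeal (X.presheaf.stalk x)).toCotangent ⟨f.stalkMap x a, hb⟩ ∈
          Submodule.span (ResidueField (X.presheaf.stalk x)) (F : Set (CotangentSpace (X.presheaf.stalk x))))
    (K : Set X) (hK : IsIrreducible K) (hSK : closure (S ∩ K) = K) :
    topologicalKrullDim ↥(closure (f '' (S ∩ K))) ≤ r := by
  have hKc : IsClosed K := hSK ▸ isClosed_closure
  let T : Closeds Y := ⟨closure (f '' (S ∩ K)), isClosed_closure⟩
  have hfK : f '' K ⊆ (T : Set Y) := by
    conv_lhs => rw [← hSK]
    exact image_closure_subset_closure_image f.continuous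
  let IX := Scheme.IdealSheafData.vanishingIdeal (⟨K, hKc⟩ : Closeds X)
  let IY := Scheme.IdealSheafData.vanishingIdeal T
  let ιX := IX.subschemeι
  let ιY := IY.subschemeι
  have hrX : Set.range ιX = K := H23.RedSub.range_vanishingIdeal _
  have hrY : Set.range ιY = (T : Set Y) := H23.RedSub.range_vanishingIdeal _
  obtain ⟨g, hg⟩ := H23.RedSub.exists_lift_closed (ιX ≫ f) ιY (by
    rintro _ ⟨z, rfl⟩
    rw [hrY]
    exact hfK ⟨ιX z, hrX ▸ ⟨z, rfl⟩, rfl⟩)
  have hTirr : IsIrreducible (T : Set Y) := by
    have : (T : Set Y) = closure (f '' K) := by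
      refine subset_antisymm (closure_mono (Set.image_mono Set.inter_subset_right)) ?_
      exact closure_minimal hfK T.isClosed
    rw [this]
    exact (hK.image f f.continuous.continuousOn).closure
  haveI hXirr : IrreducibleSpace ↥IX.subscheme := by
    have hh := ιX.isClosedEmbedding.isEmbedding.toHomeomorph
    haveI : IrreducibleSpace ↥(Set.range ιX) := Subtype.irreducibleSpace (hrX.symm ▸ hK)
    refine (irreducibleSpace_def _).2 ?_
    have h := (IrreducibleSpace.isIrreducible_univ _).image _ hh.symm.continuous.continuousOn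
    rwa [Set.image_univ, hh.symm.surjective.range_eq] at h
  haveI hYirr : IrreducibleSpace ↥IY.subscheme := by
    have hh := ιY.isClosedEmbedding.isEmbedding.toHomeomorph
    haveI : IrreducibleSpace ↥(Set.range ιY) := Subtype.irreducibleSpace (hrY.symm ▸ hTirr)
    refine (irreducibleSpace_def _).2 ?_
    have h := (IrreducibleSpace.isIrreducible_univ _).image _ hh.symm.continuous.continuousOn
    rwa [Set.image_univ, hh.symm.surjective.range_eq] at h
  haveI : IsIntegral IX.subscheme := isIntegral_of_irreducibleSpace_of_isReduced _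
  haveI : IsIntegral IY.subscheme := isIntegral_of_irreducibleSpace_of_isReduced _
  have hdim : topologicalKrullDim ↥IY.subscheme = topologicalKrullDim ↥(T : Set Y) := by
    rw [← hrY]
    exact IsHomeomorph.topologicalKrullDim_eq _ ιY.isClosedEmbedding.isEmbedding.toHomeomorph.isHomeomorph
  have hdom : DenseRange g := by
    rw [DenseRange, ιY.isClosedEmbedding.isInducing.dense_iff]
    intro y
    rw [← Set.range_comp]
    have hy : ιY y ∈ (T : Set Y) := hrY ▸ ⟨y, rfl⟩
    refine closure_mono ?_ hy
    rintro _ ⟨x, ⟨-, hx⟩, rfl⟩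
    rw [← hrX] at hx
    obtain ⟨z, rfl⟩ := hx
    exact ⟨z, congrArg (fun m => m z) hg⟩
  let qY' := ιY ≫ qY
  let qX' := ιX ≫ qX
  have hg' : g ≫ qY' = qX' := by
    show g ≫ ιY ≫ qY = ιX ≫ qX
    rw [reassoc_of% hg, hf]
  haveI : LocallyOfFiniteType qY' := inferInstanceAs (LocallyOfFiniteType (ιY ≫ qY))
  haveI : LocallyOfFiniteType qX' := inferInstanceAs (LocallyOfFiniteType (ιX ≫ qX))
  haveI : IsLocallyNoetherian IY.subscheme := LocallyOfFiniteType.isLocallyNoetherian qY'
  haveI : LocallyOfFiniteType g := by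
    have : LocallyOfFiniteType (g ≫ qY') := by rw [hg']; infer_instance
    exact locallyOfFiniteType_of_comp g qY'
  haveI : LocallyOfFinitePresentation g := LocallyOfFinitePresentation.iff_locallyOfFiniteType.2 ‹_›
  have hη := genericPoint_mem_smoothLocus qY' g hdom
  obtain ⟨O, hO, hOU⟩ := ιX.isClosedEmbedding.isInducing.isOpen_iff.1 g.smoothLocus.2
  obtain ⟨x, hxO, hxS, hxK⟩ : (O ∩ (S ∩ K)).Nonempty := by
    have h1 : ιX (genericPoint ↑IX.subscheme) ∈ O := by
      have : genericPoint ↑IX.subscheme ∈ ιX ⁻¹' O := hOU.symm ▸ hη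
      exact this
    have h2 : ιX (genericPoint ↑IX.subscheme) ∈ closure (S ∩ K) := by
      rw [hSK, ← hrX]; exact ⟨_, rfl⟩
    exact mem_closure_iff.1 h2 O hO h1
  obtain ⟨x', hx'⟩ : x ∈ Set.range ιX := by
    rw [hrX]; exact hxK
  subst hx'
  have hxU : x' ∈ g.smoothLocus := (Set.ext_iff.1 hOU x').1 hxO
  obtain ⟨hxc, F, hF, hspan⟩ := hS (ιX x') hxS
  have hx'c : IsClosed ({x'} : Set ↥IX.subscheme) := by
    have : ({x'} : Set ↥IX.subscheme) = ιX ⁻¹' {ιX x'} := by
      ext z
      exact ⟨fun h => congrArg ιX h, fun h => ιX.isClosedEmbedding.injective h⟩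
    rw [this]
    exact hxc.preimage ιX.continuous
  haveI : Subsingleton ↥(Spec (CommRingCat.of k)) := FibDim.subsingleton_spec_field k
  have hy'c : IsClosed ({g x'} : Set ↥IY.subscheme) := by
    have h4 := FibDim.rd_comp g qY' x'
    simp only [hg'] at h4
    have h2 := rd_eq_zero_of_isClosed qX' hx'c
    refine closure_eq_iff_isClosed.1 (subset_antisymm ?_ subset_closure)
    intro z hz
    by_contra hne
    have := FibDim.rd_lt qY' (specializes_iff_mem_closure.2 hz) (fun e => hne e.symm) (Subsingleton.elim _ _)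
    omega
  letI : IX.subscheme.Over (Spec (CommRingCat.of k)) := ⟨qX'⟩
  haveI : LocallyOfFiniteType (IX.subscheme ↘ Spec (CommRingCat.of k)) := ‹LocallyOfFiniteType qX'›
  letI : IY.subscheme.Over (Spec (CommRingCat.of k)) := ⟨qY'⟩
  have hres : ∀ s : IX.subscheme.presheaf.stalk x', ∃ r : IY.subscheme.presheaf.stalk (g x'),
      s - g.stalkMap x' r ∈ maximalIdeal (IX.subscheme.presheaf.stalk x') := by
    intro s
    obtain ⟨c, hc⟩ := CurveSection.exists_stalkMap_sub_mem k hx'c s
    refine ⟨Curv2.stalkMap k IY.subscheme (g x') c, ?_⟩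
    have hcomp : g.stalkMap x' (Curv2.stalkMap k IY.subscheme (g x') c) = Curv2.stalkMap k IX.subscheme x' c := by
      show g.stalkMap x' (IY.subscheme.presheaf.germ ⊤ (g x') trivial (Coh.toGlobal qY' c)) =
        IX.subscheme.presheaf.germ ⊤ x' trivial (Coh.toGlobal qX' c)
      rw [Scheme.Hom.germ_stalkMap_apply]
      clear_value qX'
      subst hg'
      rfl
    show s - g.stalkMap x' _ ∈ _
    rw [hcomp]
    exact hc
  have hinj : ∀ a : maximalIdeal (IY.subscheme.presheaf.stalk (g x')),
      (g.stalkMap x').hom a ∈ maximalIdeal (IX.subscheme.presheaf.stalk x') ^ 2 →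
      (a : IY.subscheme.presheaf.stalk (g x')) ∈ maximalIdeal (IY.subscheme.presheaf.stalk (g x')) ^ 2 := by
    letI := (g.stalkMap x').hom.toAlgebra
    haveI : IsLocalHom (algebraMap (IY.subscheme.presheaf.stalk (g x')) (IX.subscheme.presheaf.stalk x')) :=
      inferInstanceAs (IsLocalHom (g.stalkMap x').hom)
    haveI : Algebra.FormallySmooth (IY.subscheme.presheaf.stalk (g x')) (IX.subscheme.presheaf.stalk x') :=
      Scheme.Hom.mem_smoothLocus.1 hxU
    exact mem_sq_of_formallySmooth hres
  have hd : topologicalKrullDim ↥IY.subscheme ≤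
      (Module.finrank (ResidueField (IY.subscheme.presheaf.stalk (g x')))
        (CotangentSpace (IY.subscheme.presheaf.stalk (g x'))) : WithBot ℕ∞) := by
    rw [← SmoothReg.ringKrullDim_stalk_closedPoint qY' hy'c,
      ← spanFinrank_maximalIdeal_eq_finrank_cotangentSpace]
    exact ringKrullDim_le_spanFinrank_maximalIdeal _
  refine hdim.symm.le.trans (hd.trans ?_)
  -- the rank bound
  have key : ∀ (y : Y) (e : ιY (g x') = y) (ψ : Y.presheaf.stalk y ⟶ X.presheaf.stalk (ιX x')),
      IsLocalHom ψ.hom →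
      ((Y.presheaf.stalkCongr (Inseparable.of_eq e)).hom ≫ ψ) ≫ ιX.stalkMap x' = ιY.stalkMap (g x') ≫ g.stalkMap x' →
      (∀ (a : maximalIdeal (Y.presheaf.stalk y)) (hb : ψ a ∈ maximalIdeal (X.presheaf.stalk (ιX x'))),
        (maximalIdeal (X.presheaf.stalk (ιX x'))).toCotangent ⟨ψ a, hb⟩ ∈
          Submodule.span (ResidueField (X.presheaf.stalk (ιX x'))) (F : Set (CotangentSpace (X.presheaf.stalk (ιX x'))))) →
      Module.finrank (ResidueField (IY.subscheme.presheaf.stalk (g x')))
        (CotangentSpace (IY.subscheme.presheaf.stalk (g x'))) ≤ r := by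
    rintro _ rfl ψ hψ hcomm hspan
    exact finrank_le_of_square ψ.hom (g.stalkMap x').hom (ιY.stalkMap (g x')).hom (ιX.stalkMap x').hom
      (ιY.stalkMap_surjective _) (by simpa [← CommRingCat.hom_comp] using congrArg CommRingCat.Hom.hom hcomm)
      hres hinj F r hF hspan
  have heq : ιY (g x') = f (ιX x') := congrArg (fun m => m x') hg
  exact_mod_cast key (f (ιX x')) heq (f.stalkMap (ιX x')) inferInstance (by
    rw [Category.assoc, ← Scheme.Hom.stalkMap_comp, ← Scheme.Hom.stalkMap_comp,
      Scheme.Hom.stalkMap_congr_hom (g ≫ ιY) (ιX ≫ f) hg x']) hspan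

theorem dim_closure_image_le (qX : X ⟶ Spec (CommRingCat.of k)) (qY : Y ⟶ Spec (CommRingCat.of k))
    [LocallyOfFiniteType qX] [QuasiCompact qX] [LocallyOfFiniteType qY]
    (f : X ⟶ Y) (hf : f ≫ qY = qX) (r : ℕ) (S : Set X)
    (hS : ∀ x ∈ S, IsClosed ({x} : Set X) ∧ ∃ F : Finset (CotangentSpace (X.presheaf.stalk x)), F.card ≤ r ∧
      ∀ (a : maximalIdeal (Y.presheaf.stalk (f x))) (hb : f.stalkMap x a ∈ maximalIdeal (X.presheaf.stalk x)),
        (maximalIdeal (X.presheaf.stalk x)).toCotangent ⟨f.stalkMap x a, hb⟩ ∈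
          Submodule.span (ResidueField (X.presheaf.stalk x)) (F : Set (CotangentSpace (X.presheaf.stalk x)))) :
    topologicalKrullDim ↥(closure (f '' S)) ≤ r := by
  haveI : IsLocallyNoetherian X := LocallyOfFiniteType.isLocallyNoetherian qX
  haveI : CompactSpace X := QuasiCompact.compactSpace_of_compactSpace qX
  haveI : IsNoetherian X := { }
  suffices h : ∀ K : Closeds X, topologicalKrullDim ↥(closure (f '' (S ∩ K))) ≤ r by
    have h' := h ⊤
    rwa [Closeds.coe_top, Set.inter_univ] at h'
  intro K
  induction K using WellFoundedLT.induction with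
  | _ K ih =>
    by_cases hlt : closure (S ∩ (K : Set X)) = K
    · by_cases hirr : IsIrreducible (K : Set X)
      · exact dim_closure_image_le_of_irreducible qX qY f hf r S hS K hirr hlt
      · by_cases hne : (K : Set X).Nonempty
        · have : ¬ IsPreirreducible (K : Set X) := fun h => hirr ⟨hne, h⟩
          rw [isPreirreducible_iff_isClosed_union_isClosed] at this
          push_neg at this
          obtain ⟨A, B, hA, hB, hAB, hnA, hnB⟩ := this
          have hlA : K ⊓ ⟨A, hA⟩ < K := inf_le_left.lt_of_ne fun h =>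
            hnA fun z hz => ((SetLike.ext_iff.1 h z).2 hz).2
          have hlB : K ⊓ ⟨B, hB⟩ < K := inf_le_left.lt_of_ne fun h =>
            hnB fun z hz => ((SetLike.ext_iff.1 h z).2 hz).2
          have hu : S ∩ (K : Set X) = (S ∩ ((K : Set X) ∩ A)) ∪ (S ∩ ((K : Set X) ∩ B)) := by
            rw [← Set.inter_union_distrib_left, ← Set.inter_union_distrib_left]
            congr 1
            exact (Set.inter_eq_left.2 hAB).symm
          rw [hu, Set.image_union, closure_union]
          exact dim_union_le isClosed_closure isClosed_closure (by simpa using ih _ hlA) (by simpa using ih _ hlB)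
        · rw [Set.not_nonempty_iff_eq_empty] at hne
          rw [hne, Set.inter_empty, Set.image_empty, closure_empty]
          haveI : IsEmpty ↥(∅ : Set Y) := by simp
          haveI : IsEmpty (IrreducibleCloseds ↥(∅ : Set Y)) :=
            ⟨fun Z => isEmptyElim Z.isIrreducible.nonempty.choose⟩
          rw [topologicalKrullDim, Order.krullDim_eq_bot]
          exact bot_le
    · let K' : Closeds X := ⟨closure (S ∩ (K : Set X)), isClosed_closure⟩
      have hle : K' ≤ K := fun z hz => closure_minimal Set.inter_subset_right K.isClosed hz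
      have hl : K' < K := hle.lt_of_ne fun h => hlt (congrArg (fun C : Closeds X => (C : Set X)) h)
      have he : S ∩ (K' : Set X) = S ∩ (K : Set X) :=
        subset_antisymm (Set.inter_subset_inter_right _ hle) fun z hz => ⟨hz.1, subset_closure hz⟩
      have := ih K' hl
      rwa [he] at this

end Groth.Agent.SmoothField
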